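import Mathlib
import Cfsg.Prelude.Def_Spor_Conway
import Cfsg.Agent.Leech.ModTwoIrred
import Cfsg.Agent.Leech.SignGroup
import Cfsg.Agent.S0364
import Cfsg.Agent.S0365

/-! Class stabilisers modulo two and their images modulo the centre. -/

set_option autoImplicit false

namespace Cfsg.Agent.MonsterType
open Cfsg Cfsg.Agent
open scoped Pointwise

/-- quotient modulo the centre -/
def rho : ↥Co0 →* Spor.Co1 := QuotientGroup.mk' (Subgroup.center ↥Co0)

theorem cls_smul {a b : leechLattice} (g : ↥Co0) (h : Leech.cls a = Leech.cls b) :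
    Leech.cls (g • a) = Leech.cls (g • b) := by
  obtain ⟨y, rfl⟩ := Leech.cls_eq_iff.1 h
  exact Leech.cls_eq_iff.2 ⟨g • y, by rw [Leech.smul_add', Leech.smul_add']⟩

/-- stabiliser of a class -/
def stabCls (v : leechLattice) : Subgroup ↥Co0 where
  carrier := {g | Leech.cls (g • v) = Leech.cls v}
  one_mem' := by
    show Leech.cls _ = _
    rw [one_smul]
  mul_mem' := by
    intro a b ha hb
    show Leech.cls ((a * b) • v) = _
    rw [mul_smul]
    exact (cls_smul a hb).trans ha
  inv_mem' := by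
    intro a ha
    show Leech.cls (a⁻¹ • v) = _
    conv_rhs => rw [← inv_smul_smul a v]
    exact (cls_smul a⁻¹ ha).symm

theorem mem_stabCls {v : leechLattice} {g : ↥Co0} :
    g ∈ stabCls v ↔ Leech.cls (g • v) = Leech.cls v := Iff.rfl

theorem mem_stabCls_smul {v : leechLattice} {a g : ↥Co0} :
    g ∈ stabCls (a • v) ↔ a⁻¹ * g * a ∈ stabCls v := by
  simp only [mem_stabCls, mul_smul]
  exact ⟨fun h => (cls_smul a⁻¹ h).trans (by rw [inv_smul_smul]),
    fun h => by simpa using cls_smul a h⟩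

/-- sign changes as a homomorphism -/
def signHom : Multiplicative ↥golayCode →* ↥Co0 where
  toFun c := Leech.signCo0 c.toAdd.1 c.toAdd.2
  map_one' := Leech.signCo0_zero
  map_mul' a b := (Leech.signCo0_mul _ _ a.toAdd.2 b.toAdd.2).symm

/-- permutations as a homomorphism -/
def permHom : ↥M24 →* ↥Co0 where
  toFun σ := Leech.permCo0 σ.1 σ.2
  map_one' := Leech.ext_of_oct fun i => Subtype.ext (funext fun q => by
    rw [Leech.permCo0_apply, one_smul]; simp)
  map_mul' σ τ := Leech.ext_of_oct fun i => Subtype.ext (funext fun q => by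
    simp only [mul_smul, Leech.permCo0_apply, Subgroup.coe_mul, mul_inv_rev, Equiv.Perm.mul_apply])

/-- the sign part modulo the centre -/
def signImage : Subgroup Spor.Co1 := (rho.comp signHom).range

/-- the permutation part modulo the centre -/
def permImage : Subgroup Spor.Co1 := (rho.comp permHom).range

theorem mono_oct (c : Multiplicative ↥golayCode) (σ : ↥M24) (i : GolayPt) :
    (((signHom c * permHom σ) • Leech.oct i : leechLattice) : GolayPt → ℤ) =
      Pi.single ((σ : Equiv.Perm GolayPt) i)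
        (if c.toAdd.1 ((σ : Equiv.Perm GolayPt) i) = 0 then 8 else -8) := by
  funext q
  show (((Leech.signCo0 _ c.toAdd.2 * Leech.permCo0 _ σ.2) • Leech.oct i : leechLattice) :
    GolayPt → ℤ) q = _
  rw [mul_smul, Leech.signCo0_apply]
  simp only [Leech.negOn, Leech.permCo0_apply, Leech.oct, Pi.single_apply]
  by_cases hq : q = (σ : Equiv.Perm GolayPt) i
  · subst hq; simp
  · have : (σ : Equiv.Perm GolayPt)⁻¹ q ≠ i := fun e => hq (by rw [← e]; simp)
    simp [hq, show (σ : Equiv.Perm GolayPt).symm q ≠ i from this]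

theorem mono_inj {c d : Multiplicative ↥golayCode} {σ τ : ↥M24}
    (h : signHom c * permHom σ = signHom d * permHom τ) : c = d ∧ σ = τ := by
  have hev : ∀ i, (σ : Equiv.Perm GolayPt) i = (τ : Equiv.Perm GolayPt) i ∧
      (c.toAdd.1 ((σ : Equiv.Perm GolayPt) i) = 0 ↔
        d.toAdd.1 ((σ : Equiv.Perm GolayPt) i) = 0) := by
    intro i
    have e := congrArg (fun g : ↥Co0 => ((g • Leech.oct i : leechLattice) : GolayPt → ℤ)
      ((σ : Equiv.Perm GolayPt) i)) h
    simp only [mono_oct, Pi.single_apply, if_true] at e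
    by_cases hst : (σ : Equiv.Perm GolayPt) i = (τ : Equiv.Perm GolayPt) i
    · refine ⟨hst, ?_⟩
      rw [if_pos hst, ← hst] at e
      split_ifs at e
      all_goals first | exact iff_of_true ‹_› ‹_› | exact iff_of_false ‹_› ‹_› | omega
    · exfalso; rw [if_neg hst] at e; split_ifs at e <;> omega
  have hστ : σ = τ := Subtype.ext (Equiv.ext fun i => (hev i).1)
  refine ⟨Multiplicative.toAdd.injective (Subtype.ext (funext fun p => ?_)), hστ⟩
  have := (hev ((σ : Equiv.Perm GolayPt)⁻¹ p)).2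
  rw [show (σ : Equiv.Perm GolayPt) ((σ : Equiv.Perm GolayPt)⁻¹ p) = p by simp] at this
  rcases (show ∀ x : ZMod 2, x = 0 ∨ x = 1 by decide) (c.toAdd.1 p) with a | a <;>
    rcases (show ∀ x : ZMod 2, x = 0 ∨ x = 1 by decide) (d.toAdd.1 p) with b | b <;>
    simp_all

/-- the all-ones word -/
def allOnes : Multiplicative ↥golayCode := Multiplicative.ofAdd ⟨1, Leech.one_mem⟩

theorem rho_eq_one {g : ↥Co0} : rho g = 1 ↔ g = 1 ∨ g = Leech.zneg := by
  show (QuotientGroup.mk g : Spor.Co1) = 1 ↔ _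
  rw [QuotientGroup.eq_one_iff, ← SetLike.mem_coe, Leech.card_center_eq]
  simp

theorem rho_mono_eq_one {c : Multiplicative ↥golayCode} {σ : ↥M24}
    (h : rho (signHom c * permHom σ) = 1) : (c = 1 ∨ c = allOnes) ∧ σ = 1 := by
  rcases rho_eq_one.1 h with e | e
  · obtain ⟨a, b⟩ := mono_inj (d := 1) (τ := 1) (e.trans (by simp))
    exact ⟨Or.inl a, b⟩
  · obtain ⟨a, b⟩ := mono_inj (d := allOnes) (τ := 1) (e.trans (by rw [map_one, mul_one]; rfl))
    exact ⟨Or.inr a, b⟩

theorem card_signImage : Nat.card ↥signImage = 2 ^ 11 := by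
  have hC : Nat.card (Multiplicative ↥golayCode) = 4096 := by
    rw [Nat.card_congr Multiplicative.toAdd, Module.natCard_eq_pow_finrank (K := ZMod 2),
      Leech.finrank_golayCode]
    simp
  have hne : allOnes ≠ 1 := fun e => by
    have := congrArg (fun c : Multiplicative ↥golayCode => c.toAdd.1 none) e
    exact one_ne_zero (α := ZMod 2) this
  have hker : ((rho.comp signHom).ker : Set (Multiplicative ↥golayCode)) = {1, allOnes} := by
    ext c
    simp only [SetLike.mem_coe, MonoidHom.mem_ker, MonoidHom.comp_apply, Set.mem_insert_iff,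
      Set.mem_singleton_iff]
    constructor
    · intro h
      exact (rho_mono_eq_one (σ := 1) (by rwa [map_one, mul_one])).1
    · rintro (rfl | rfl)
      · simp
      · exact rho_eq_one.2 (Or.inr rfl)
  have h2 : Nat.card ↥(rho.comp signHom).ker = 2 :=
    (Nat.card_coe_set_eq _).trans (by rw [hker, Set.ncard_pair hne.symm])
  have := (rho.comp signHom).ker.card_mul_index
  rw [Subgroup.index_ker, h2, hC] at this
  show Nat.card ↥(rho.comp signHom).range = _
  omega

theorem signImage_elementary : ∀ a ∈ signImage, a ^ 2 = 1 := by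
  rintro _ ⟨c, rfl⟩
  rw [← map_pow, sq, show c * c = 1 from Multiplicative.toAdd.injective
    (Subtype.ext (funext fun p => CharTwo.add_self_eq_zero _)), map_one]

theorem signImage_inf_permImage : signImage ⊓ permImage = ⊥ := by
  rw [eq_bot_iff]
  rintro _ ⟨⟨c, rfl⟩, ⟨σ, hσ⟩⟩
  rw [Subgroup.mem_bot, ← hσ]
  have : rho (signHom c⁻¹ * permHom σ) = 1 := by
    rw [map_mul, show rho (permHom σ) = rho (signHom c) from hσ, map_inv, map_inv, inv_mul_cancel]
  rw [(rho_mono_eq_one this).2]
  simp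

/-- the permutation part is the Mathieu group -/
noncomputable def permImageEquiv : ↥permImage ≃* ↥M24 :=
  (MonoidHom.ofInjective (f := rho.comp permHom) ((injective_iff_map_eq_one _).2 fun σ h =>
    (rho_mono_eq_one (c := 1) (σ := σ) (by rwa [map_one, one_mul])).2)).symm

theorem sign_mem_frame (c : Multiplicative ↥golayCode) : signHom c ∈ stabCls (Leech.oct none) := by
  have h := mono_oct c 1 none
  rw [map_one, mul_one] at h
  obtain ⟨z, hz, e⟩ := Leech.stdCross_congr
    (show ((signHom c • Leech.oct none : leechLattice) : GolayPt → ℤ) ∈ stdCross from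
      h ▸ ⟨_, _, by split_ifs <;> simp, rfl⟩) (Leech.oct_mem_stdCross none)
  exact Leech.cls_eq.2 ⟨z, hz, e⟩

theorem perm_mem_frame (σ : ↥M24) : permHom σ ∈ stabCls (Leech.oct none) := by
  have h := mono_oct 1 σ none
  rw [map_one, one_mul] at h
  obtain ⟨z, hz, e⟩ := Leech.stdCross_congr
    (show ((permHom σ • Leech.oct none : leechLattice) : GolayPt → ℤ) ∈ stdCross from
      h ▸ ⟨_, _, by split_ifs <;> simp, rfl⟩) (Leech.oct_mem_stdCross none)
  exact Leech.cls_eq.2 ⟨z, hz, e⟩

theorem frame_decomp {g : ↥Co0} (hg : g ∈ stabCls (Leech.oct none)) :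
    ∃ c σ, g = signHom c * permHom σ := by
  have h : ∀ i, ((g • Leech.oct i : leechLattice) : GolayPt → ℤ) ∈ stdCross := by
    intro i
    obtain ⟨z, hz, e⟩ := Leech.stdCross_congr (Leech.oct_mem_stdCross i) (Leech.oct_mem_stdCross none)
    have hi : Leech.cls (g • Leech.oct i) = Leech.cls (Leech.oct none) :=
      (cls_smul g (Leech.cls_eq.2 ⟨z, hz, e⟩)).trans hg
    obtain ⟨y, hy, e'⟩ := Leech.cls_eq.1 hi.symm
    refine Leech.stdCross_class (Leech.oct_mem_stdCross none) ?_ hy e'
    rw [Leech.sqNorm_smul]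
    exact (Leech.stdCross_mem (Leech.oct_mem_stdCross i)).2
  obtain ⟨σ, hσ, c, hc, rfl⟩ := Leech.exists_of_stdFrame g h
  exact ⟨Multiplicative.ofAdd ⟨c, hc⟩, ⟨σ, hσ⟩, rfl⟩

theorem perm_sign_conj (σ : ↥M24) (c : Multiplicative ↥golayCode) :
    ∃ d, permHom σ * signHom c * (permHom σ)⁻¹ = signHom d := by
  refine ⟨Multiplicative.ofAdd ⟨fun p => c.toAdd.1 ((σ : Equiv.Perm GolayPt)⁻¹ p),
    Leech.comp_mem_of_M24 (inv_mem σ.2) c.toAdd.2⟩, ?_⟩
  rw [mul_inv_eq_iff_eq_mul]
  refine Leech.ext_of_oct fun i => Subtype.ext (funext fun q => ?_)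
  show (((Leech.permCo0 _ σ.2 * Leech.signCo0 _ c.toAdd.2) • Leech.oct i : leechLattice) :
    GolayPt → ℤ) q = (((Leech.signCo0 (fun p => c.toAdd.1 ((σ : Equiv.Perm GolayPt)⁻¹ p))
      (Leech.comp_mem_of_M24 (inv_mem σ.2) c.toAdd.2) * Leech.permCo0 _ σ.2) • Leech.oct i :
      leechLattice) : GolayPt → ℤ) q
  simp only [mul_smul, Leech.permCo0_apply, Leech.signCo0_apply, Leech.negOn]

theorem frameImage_eq : (stabCls (Leech.oct none)).map rho = signImage ⊔ permImage := by
  refine le_antisymm ?_ (sup_le ?_ ?_)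
  · rintro _ ⟨g, hg, rfl⟩
    obtain ⟨c, σ, rfl⟩ := frame_decomp hg
    rw [map_mul]
    exact mul_mem ((le_sup_left : signImage ≤ _) ⟨c, rfl⟩) ((le_sup_right : permImage ≤ _) ⟨σ, rfl⟩)
  · rintro _ ⟨c, rfl⟩; exact ⟨_, sign_mem_frame c, rfl⟩
  · rintro _ ⟨σ, rfl⟩; exact ⟨_, perm_mem_frame σ, rfl⟩

theorem signImage_normal {x : Spor.Co1} (hx : x ∈ (stabCls (Leech.oct none)).map rho) :
    ∀ y ∈ signImage, x * y * x⁻¹ ∈ signImage := by
  obtain ⟨g, hg, rfl⟩ := hx
  rintro _ ⟨d, rfl⟩
  obtain ⟨c, σ, rfl⟩ := frame_decomp hg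
  obtain ⟨d', hd'⟩ := perm_sign_conj σ d
  refine ⟨c * d' * c⁻¹, ?_⟩
  simp only [MonoidHom.comp_apply, map_mul, map_inv, ← hd']
  group

/-- the shift of order 23 as an element -/
def shiftM : ↥M24 := ⟨Leech.shift, Leech.shift_mem⟩

theorem shift_moves : Leech.shift (some 0) ≠ some 0 := by decide +kernel

theorem orderOf_shiftM : orderOf shiftM = 23 := by
  have : Fact (Nat.Prime 23) := ⟨by norm_num⟩
  refine orderOf_eq_prime ?_ ?_
  · exact Subtype.ext (Equiv.ext (show ∀ i, (Leech.shift ^ 23 : Equiv.Perm GolayPt) i = i by decide +kernel))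
  · intro e
    exact absurd (congrArg (fun s : ↥M24 => (s : Equiv.Perm GolayPt) (some 0)) e)
      shift_moves

theorem orderOf_rho_shift : orderOf (rho (permHom shiftM)) = 23 := by
  have hinj : Function.Injective (rho.comp permHom) := (injective_iff_map_eq_one _).2 fun σ h =>
    (rho_mono_eq_one (c := 1) (σ := σ) (by rwa [map_one, one_mul])).2
  exact (orderOf_injective (rho.comp permHom) hinj shiftM).trans orderOf_shiftM

theorem orderOf_rho_of_23 {y : ↥Co0} (hy : orderOf y = 23) : orderOf (rho y) = 23 := by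
  have : Fact (Nat.Prime 23) := ⟨by norm_num⟩
  refine orderOf_eq_prime (by rw [← map_pow, ← hy, pow_orderOf_eq_one, map_one]) fun e => ?_
  have h2 : y ^ 2 = 1 := by
    rcases rho_eq_one.1 e with rfl | rfl
    · exact one_pow 2
    · exact Leech.zneg_sq
  have := orderOf_dvd_of_pow_eq_one h2
  rw [hy] at this
  norm_num at this

/-- a normalised 2-subgroup of the image of the frame stabiliser consists of sign changes -/
theorem le_signImage (P : Subgroup Spor.Co1) (hP : IsPGroup 2 P)
    (hle : P ≤ (stabCls (Leech.oct none)).map rho)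
    (hn : ∀ x ∈ (stabCls (Leech.oct none)).map rho, ∀ y ∈ P, x * y * x⁻¹ ∈ P) : P ≤ signImage := by
  have hE : IsPGroup 2 ↥signImage := IsPGroup.of_card card_signImage
  have hnorm : P ≤ Subgroup.normalizer (signImage : Set Spor.Co1) := fun x hx => by
    refine Subgroup.mem_normalizer_iff.2 fun y => ⟨fun hy => signImage_normal (hle hx) y hy, fun hy => ?_⟩
    have := signImage_normal (inv_mem (hle hx)) _ hy
    simpa [mul_assoc] using this
  have hU : IsPGroup 2 ↥(P ⊔ signImage) := hP.to_sup_of_normal_right' hE hnorm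
  let T : Subgroup ↥M24 := (P ⊔ signImage).comap (rho.comp permHom)
  have hT : T.Normal := ⟨fun t ht σ => by
    have hx : rho (permHom σ) ∈ (stabCls (Leech.oct none)).map rho := ⟨_, perm_mem_frame σ, rfl⟩
    have hmap : P ⊔ signImage ≤ (P ⊔ signImage).comap (MulAut.conj (rho (permHom σ))).toMonoidHom :=
      sup_le (fun y hy => (le_sup_left : P ≤ _) (hn _ hx y hy))
        (fun y hy => (le_sup_right : signImage ≤ _) (signImage_normal hx y hy))
    have := hmap ht
    show rho (permHom (σ * t * σ⁻¹)) ∈ P ⊔ signImage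
    simpa using this⟩
  rcases (S0365.result).eq_bot_or_eq_top_of_normal T hT with h | h
  · intro p hp
    obtain ⟨g, hg, rfl⟩ := hle hp
    obtain ⟨c, σ, rfl⟩ := frame_decomp hg
    have hσ : σ ∈ T := by
      have := mul_mem ((le_sup_right : signImage ≤ P ⊔ _) (inv_mem ⟨c, rfl⟩ :
        (rho.comp signHom c)⁻¹ ∈ signImage)) ((le_sup_left : P ≤ P ⊔ signImage) hp)
      show rho (permHom σ) ∈ P ⊔ signImage
      simpa using this
    rw [h, Subgroup.mem_bot] at hσ
    rw [hσ, map_one, mul_one]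
    exact ⟨c, rfl⟩
  · exfalso
    have hm : rho (permHom shiftM) ∈ P ⊔ signImage :=
      (h ▸ Subgroup.mem_top shiftM : shiftM ∈ T)
    obtain ⟨k, hk⟩ := hU ⟨_, hm⟩
    have h2 : (rho (permHom shiftM)) ^ 2 ^ k = 1 := congrArg Subtype.val hk
    have := orderOf_dvd_of_pow_eq_one h2
    rw [orderOf_rho_shift] at this
    have := (show Nat.Prime 23 by norm_num).dvd_of_dvd_pow this
    norm_num at this

theorem stabCls_leechU {g : ↥Co0} (hg : g ∈ stabCls Spor.leechU) :
    g ∈ Leech.stabU ∨ g * Leech.zneg ∈ Leech.stabU := by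
  have hU : sqNorm (Spor.leechU : GolayPt → ℤ) = 32 := show sqNorm Spor.vecU = 32 by decide +kernel
  obtain ⟨z, hz, e⟩ := Leech.cls_eq.1 hg
  have hn : sqNorm ((g • Spor.leechU : leechLattice) : GolayPt → ℤ) = 32 := by
    rw [Leech.sqNorm_smul]; exact hU
  rcases Leech.congr_two (g • Spor.leechU).2 Spor.leechU.2 (by omega) (by omega) hz e with h | h | ⟨h, -, -⟩
  · exact Or.inl (Subtype.ext h).symm
  · right
    show (g * Leech.zneg) • Spor.leechU = Spor.leechU
    rw [mul_smul, Leech.zneg_smul, Leech.smul_neg']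
    refine Subtype.ext ?_
    rw [AddSubgroup.coe_neg, h]
  · omega

theorem exists_23_leechU : ∃ y ∈ stabCls Spor.leechU, orderOf y = 23 := by
  have := Leech.finite_co0
  have : Fact (Nat.Prime 23) := ⟨by norm_num⟩
  obtain ⟨y, hy⟩ := exists_prime_orderOf_dvd_card' (G := ↥Leech.stabU) 23
    (by rw [Leech.stabU_transitive_facts]; norm_num)
  exact ⟨y, mem_stabCls.2 (congrArg Leech.cls y.2), by rw [Subgroup.orderOf_coe]; exact hy⟩

/-- no normal 2-subgroup in the image of the stabiliser of a short class -/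
theorem eq_bot_of_short (P : Subgroup Spor.Co1) (hP : IsPGroup 2 P)
    (hle : P ≤ (stabCls Spor.leechU).map rho)
    (hn : ∀ x ∈ (stabCls Spor.leechU).map rho, ∀ y ∈ P, x * y * x⁻¹ ∈ P) : P = ⊥ := by
  have hsub : ∀ g ∈ Leech.stabU, rho g ∈ (stabCls Spor.leechU).map rho := fun g hg =>
    ⟨g, mem_stabCls.2 (congrArg Leech.cls hg), rfl⟩
  have hT : (P.comap (rho.comp Leech.stabU.subtype)).Normal := ⟨fun t ht s => by
    have := hn _ (hsub _ s.2) _ ht
    simpa using this⟩
  rcases Leech.simple_stabU.eq_bot_or_eq_top_of_normal _ hT with h | h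
  · rw [eq_bot_iff]
    intro p hp
    obtain ⟨g, hg, rfl⟩ := hle hp
    rcases stabCls_leechU hg with hs | hs
    · have : (⟨g, hs⟩ : ↥Leech.stabU) ∈ P.comap (rho.comp Leech.stabU.subtype) := hp
      rw [h, Subgroup.mem_bot] at this
      rw [Subgroup.mem_bot, show g = 1 from congrArg Subtype.val this, map_one]
    · have hz : rho (g * Leech.zneg) = rho g := by
        rw [map_mul, rho_eq_one.2 (Or.inr rfl), mul_one]
      have : (⟨g * Leech.zneg, hs⟩ : ↥Leech.stabU) ∈ P.comap (rho.comp Leech.stabU.subtype) := by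
        show rho (g * Leech.zneg) ∈ P
        rw [hz]; exact hp
      rw [h, Subgroup.mem_bot] at this
      rw [Subgroup.mem_bot, ← hz, show g * Leech.zneg = 1 from congrArg Subtype.val this, map_one]
  · exfalso
    obtain ⟨y, hy, hy23⟩ := exists_23_leechU
    have hyP : rho y ∈ P := by
      rcases stabCls_leechU hy with hs | hs
      · exact (h ▸ Subgroup.mem_top _ : (⟨y, hs⟩ : ↥Leech.stabU) ∈ _)
      · have : rho (y * Leech.zneg) ∈ P := (h ▸ Subgroup.mem_top _ : (⟨_, hs⟩ : ↥Leech.stabU) ∈ _)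
        rwa [map_mul, rho_eq_one.2 (Or.inr rfl), mul_one] at this
    obtain ⟨k, hk⟩ := hP ⟨_, hyP⟩
    have := orderOf_dvd_of_pow_eq_one (congrArg Subtype.val hk : (rho y) ^ 2 ^ k = 1)
    rw [orderOf_rho_of_23 hy23] at this
    have := (show Nat.Prime 23 by norm_num).dvd_of_dvd_pow this
    norm_num at this

end Cfsg.Agent.MonsterType
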