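import Mathlib
import Cfsg.Agent.MonsterType.Monomial
import Cfsg.Agent.S0397

/-! Elements of order 23 modulo the centre commute with no involution. -/

set_option autoImplicit false

namespace Cfsg.Agent.MonsterType
open Cfsg Cfsg.Agent
open scoped Pointwise

theorem shift_fixed {v : leechLattice} (hn : sqNorm (v : GolayPt → ℤ) = 64)
    (hv : permHom shiftM • v = v) : (v : GolayPt → ℤ) ∈ stdCross := by
  have hstep : ∀ k : ZMod 23, (v : GolayPt → ℤ) (some (k + 1)) = (v : GolayPt → ℤ) (some k) := by
    intro k
    have h := congrArg (fun w : leechLattice => (w : GolayPt → ℤ) (some (k + 1))) hv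
    simp only [show permHom shiftM = Leech.permCo0 Leech.shift Leech.shift_mem from rfl,
      Leech.permCo0_apply] at h
    rw [show Leech.shift⁻¹ (some (k + 1)) = some k by
      rw [Equiv.Perm.inv_def, Equiv.symm_apply_eq]; simp [Leech.shift]] at h
    exact h.symm
  have hconst : ∀ n : ℕ, (v : GolayPt → ℤ) (some (n : ZMod 23)) = (v : GolayPt → ℤ) (some 0) := by
    intro n
    induction n with
    | zero => simp
    | succ n ih => rw [Nat.cast_succ, hstep, ih]
  set b := (v : GolayPt → ℤ) (some 0) with hb
  set a := (v : GolayPt → ℤ) none with ha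
  have hall : ∀ k, (v : GolayPt → ℤ) (some k) = b := fun k => by
    have := hconst k.val
    rwa [ZMod.natCast_zmod_val] at this
  have hn' : a ^ 2 + 23 * b ^ 2 = 64 := by
    rw [← hn, sqNorm, Fintype.sum_option]
    simp only [hall, Finset.sum_const, Finset.card_univ, ZMod.card, nsmul_eq_mul]
    rfl
  have hb0 : b = 0 := by
    have h1 : b ^ 2 ≤ 2 := by nlinarith [sq_nonneg a]
    have h2 : -1 ≤ b := by nlinarith
    have h3 : b ≤ 1 := by nlinarith
    interval_cases b
    · exfalso
      have ha1 : a ^ 2 = 41 := by linarith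
      have : -6 ≤ a ∧ a ≤ 6 := ⟨by nlinarith, by nlinarith⟩
      obtain ⟨x, y⟩ := this
      interval_cases a <;> norm_num at ha1
    · rfl
    · exfalso
      have ha1 : a ^ 2 = 41 := by linarith
      have : -6 ≤ a ∧ a ≤ 6 := ⟨by nlinarith, by nlinarith⟩
      obtain ⟨x, y⟩ := this
      interval_cases a <;> norm_num at ha1
  refine ⟨none, a, ?_, funext fun p => ?_⟩
  · rw [hb0] at hn'
    exact sq_eq_sq_iff_eq_or_eq_neg.1 (by linarith)
  · cases p with
    | none => simp [ha]
    | some k => simp [hall k, hb0]

theorem commute_shift_central {t : ↥Co0} (hc : Commute t (permHom shiftM)) (h4 : t ^ 4 = 1) :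
    rho t = 1 := by
  have hsn : permHom shiftM • Leech.oct none = Leech.oct none :=
    Subtype.ext (by
      have := mono_oct 1 shiftM none
      rw [map_one, one_mul] at this
      rw [this]
      simp [shiftM, Leech.shift, Leech.oct])
  have hfix : ((t • Leech.oct none : leechLattice) : GolayPt → ℤ) ∈ stdCross := by
    refine shift_fixed ?_ ?_
    · rw [Leech.sqNorm_smul]; exact (Leech.stdCross_mem (Leech.oct_mem_stdCross none)).2
    · rw [← mul_smul, ← hc.eq, mul_smul, hsn]
  have ht : t ∈ stabCls (Leech.oct none) := by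
    obtain ⟨z, hz, e⟩ := Leech.stdCross_congr hfix (Leech.oct_mem_stdCross none)
    exact Leech.cls_eq.2 ⟨z, hz, e⟩
  obtain ⟨c, σ, rfl⟩ := frame_decomp ht
  obtain ⟨d, hd⟩ := perm_sign_conj shiftM c
  have e1 : permHom shiftM * (signHom c * permHom σ) = signHom d * permHom (shiftM * σ) := by
    rw [map_mul, ← hd]; group
  have e2 : signHom c * permHom (σ * shiftM) = signHom d * permHom (shiftM * σ) := by
    rw [map_mul, ← e1, ← hc.eq, mul_assoc]
  obtain ⟨hcd, hσ⟩ := mono_inj e2
  -- the permutation
  have h4σ : σ ^ 4 = 1 := by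
    have hmem : ∀ n : ℕ, ∃ x, (signHom c * permHom σ) ^ n = signHom x * permHom (σ ^ n) := by
      intro n
      induction n with
      | zero => exact ⟨1, by simp⟩
      | succ n ih =>
        obtain ⟨x, hx⟩ := ih
        obtain ⟨y, hy⟩ := perm_sign_conj (σ ^ n) c
        exact ⟨x * y, by rw [pow_succ, hx, map_mul, ← hy, pow_succ, map_mul]; group⟩
    obtain ⟨x, hx⟩ := hmem 4
    exact ((mono_inj (d := 1) (τ := 1) (hx.symm.trans (h4.trans (by simp)))).2)
  set p : Equiv.Perm GolayPt := (σ : Equiv.Perm GolayPt) with hp
  have hcomm : ∀ i, p (Leech.shift i) = Leech.shift (p i) := fun i =>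
    congrArg (fun s : ↥M24 => (s : Equiv.Perm GolayPt) i) hσ
  have hnone : p none = none := by
    have h := hcomm none
    rw [show Leech.shift none = none by simp [Leech.shift]] at h
    rcases hq : p none with _ | k
    · rfl
    · exfalso
      rw [hq] at h
      simp [Leech.shift] at h
      exact absurd h (by decide)
  obtain ⟨k, hk⟩ : ∃ k, p (some 0) = some k := by
    rcases hq : p (some 0) with _ | k
    · exfalso
      have := p.injective (hq.trans hnone.symm)
      simp at this
    · exact ⟨k, rfl⟩
  have htr : ∀ i, p (some i) = some (i + k) := by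
    have : ∀ n : ℕ, p (some (n : ZMod 23)) = some ((n : ZMod 23) + k) := by
      intro n
      induction n with
      | zero => simp [hk]
      | succ n ih =>
        rw [Nat.cast_succ, show (some ((n : ZMod 23) + 1) : GolayPt) = Leech.shift (some (n : ZMod 23))
          by simp [Leech.shift], hcomm, ih]
        simp [Leech.shift]
        ring
    intro i
    have := this i.val
    rwa [ZMod.natCast_zmod_val] at this
  have hk0 : k = 0 := by
    have h := congrArg (fun s : ↥M24 => (s : Equiv.Perm GolayPt) (some 0)) h4σ
    simp only [pow_succ, pow_zero, one_mul, Subgroup.coe_mul, Subgroup.coe_one, Equiv.Perm.mul_apply,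
      Equiv.Perm.one_apply] at h
    rw [← hp, htr, htr, htr, htr] at h
    have h' : (4 : ZMod 23) * k = 0 := by
      have := Option.some_injective _ h
      linear_combination this
    have h6 : (6 : ZMod 23) * ((4 : ZMod 23) * k) = k := by
      rw [← mul_assoc, show (6 : ZMod 23) * 4 = 1 from rfl, one_mul]
    rw [← h6, h', mul_zero]
  have hσ1 : σ = 1 := Subtype.ext (Equiv.ext fun i => by
    cases i with
    | none => exact hnone
    | some i => show p (some i) = _; rw [htr, hk0, add_zero]; rfl)
  subst hσ1
  rw [map_one, mul_one]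
  -- the word
  have hd' : ∀ i, d.toAdd.1 (Leech.shift i) = c.toAdd.1 i := by
    intro i
    have e : permHom shiftM * signHom c = signHom d * permHom shiftM := by simpa using e1
    have a1 := congrFun (mono_oct d shiftM i) (Leech.shift i)
    rw [← e, mul_smul] at a1
    rw [show permHom shiftM = Leech.permCo0 Leech.shift Leech.shift_mem from rfl,
      Leech.permCo0_apply,
      show signHom c = Leech.signCo0 c.toAdd.1 c.toAdd.2 from rfl, Leech.signCo0_apply] at a1
    revert a1
    simp only [Leech.negOn, Leech.oct, shiftM, Equiv.Perm.inv_def, Equiv.symm_apply_apply,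
      Pi.single_eq_same]
    rcases (show ∀ x : ZMod 2, x = 0 ∨ x = 1 by decide) (c.toAdd.1 i) with a | a <;>
      rcases (show ∀ x : ZMod 2, x = 0 ∨ x = 1 by decide) (d.toAdd.1 (Leech.shift i)) with b | b <;>
      simp [a, b]
  subst hcd
  have hcs : ∀ j : ZMod 23, c.toAdd.1 (some j) = c.toAdd.1 (some 0) := by
    have : ∀ n : ℕ, c.toAdd.1 (some (n : ZMod 23)) = c.toAdd.1 (some 0) := by
      intro n
      induction n with
      | zero => simp
      | succ n ih =>
        rw [← ih, ← hd' (some (n : ZMod 23)), Nat.cast_succ]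
        simp [Leech.shift]
    intro j
    have := this j.val
    rwa [ZMod.natCast_zmod_val] at this
  have hw := Leech.four_dvd_weight c.toAdd.2
  rcases (show ∀ x : ZMod 2, x = 0 ∨ x = 1 by decide) (c.toAdd.1 none) with a | a <;>
    rcases (show ∀ x : ZMod 2, x = 0 ∨ x = 1 by decide) (c.toAdd.1 (some 0)) with b | b
  · have : c = 1 := Multiplicative.toAdd.injective (Subtype.ext (funext fun p => by
      cases p with
      | none => exact a
      | some j => exact (hcs j).trans b))
    rw [this, map_one, map_one]
  · exfalso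
    rw [show c.toAdd.1 = fun p => if p = none then 0 else 1 from funext fun p => by
      cases p with
      | none => simpa using a
      | some j => simpa using (hcs j).trans b] at hw
    revert hw; decide +kernel
  · exfalso
    rw [show c.toAdd.1 = fun p => if p = none then 1 else 0 from funext fun p => by
      cases p with
      | none => simpa using a
      | some j => simpa using (hcs j).trans b] at hw
    revert hw; decide +kernel
  · have : c = allOnes := Multiplicative.toAdd.injective (Subtype.ext (funext fun p => by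
      cases p with
      | none => exact a
      | some j => exact (hcs j).trans b))
    rw [this]
    exact rho_eq_one.2 (Or.inr rfl)

/-- elements of order 23 commute with no involution -/
theorem no_commute_23 {a b : Spor.Co1} (ha : a ^ 2 = 1) (hb : orderOf b = 23) (hab : Commute a b) :
    a = 1 := by
  have := Leech.finite_co0
  have : Fact (Nat.Prime 23) := ⟨by norm_num⟩
  obtain ⟨t, rfl⟩ := QuotientGroup.mk'_surjective _ a
  obtain ⟨g0, rfl⟩ := QuotientGroup.mk'_surjective _ b
  change rho t = 1
  change rho t ^ 2 = 1 at ha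
  change orderOf (rho g0) = 23 at hb
  change Commute (rho t) (rho g0) at hab
  have hsq : ∀ x : ↥Co0, rho x = 1 → x ^ 2 = 1 := fun x hx => by
    rcases rho_eq_one.1 hx with rfl | rfl
    · exact one_pow 2
    · exact Leech.zneg_sq
  have hb1 : rho g0 ^ 23 = 1 := by rw [← hb]; exact pow_orderOf_eq_one _
  have hg46 : g0 ^ 46 = 1 := by
    rw [show 46 = 23 * 2 from rfl, pow_mul]
    exact hsq _ (by rw [map_pow, hb1])
  set g := g0 ^ 24 with hgdef
  have hg : rho g = rho g0 := by rw [hgdef, map_pow, pow_succ, hb1, one_mul]
  have hg23 : g ^ 23 = 1 := by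
    rw [hgdef, ← pow_mul, show 24 * 23 = 46 * 12 from rfl, pow_mul, hg46, one_pow]
  have hgo : orderOf g = 23 := orderOf_eq_prime hg23 fun e => by
    rw [e, map_one] at hg
    rw [← hg] at hb
    simp at hb
  have hcomm : Commute t g := by
    set c := g⁻¹ * (t * g * t⁻¹) with hc
    have hrc : rho c = 1 := by
      rw [hc]
      simp only [map_mul, map_inv, hg, hab.eq]
      group
    have hcc : Commute g c := by
      rcases rho_eq_one.1 hrc with h | h <;> rw [h]
      · exact Commute.one_right _
      · exact Leech.zneg_comm g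
    have h1 : (t * g * t⁻¹) ^ 23 = 1 := by rw [conj_pow, hg23, mul_one, mul_inv_cancel]
    have h2 : t * g * t⁻¹ = g * c := by rw [hc]; group
    rw [h2, hcc.mul_pow, hg23, one_mul] at h1
    have hc1 : c = 1 := by
      have : c ^ 23 = c * (c ^ 2) ^ 11 := by group
      rw [this, hsq c hrc, one_pow, mul_one] at h1
      exact h1
    rw [hc1, mul_one] at h2
    exact mul_inv_eq_iff_eq_mul.1 h2
  have ht4 : t ^ 4 = 1 := by
    rw [show 4 = 2 * 2 from rfl, pow_mul]
    exact hsq _ (by rw [map_pow]; exact ha)
  have hsh : orderOf (permHom shiftM) = 23 := by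
    have : Function.Injective permHom := (injective_iff_map_eq_one _).2 fun σ h =>
      (rho_mono_eq_one (c := 1) (σ := σ) (by rw [map_one, one_mul, h, map_one])).2
    exact (orderOf_injective permHom this shiftM).trans orderOf_shiftM
  have hsyl : ∀ x : ↥Co0, orderOf x = 23 → IsPGroup 23 ↥(Subgroup.zpowers x) ∧
      ¬ 23 ∣ (Subgroup.zpowers x).index := by
    intro x hx
    have hc : Nat.card ↥(Subgroup.zpowers x) = 23 := by rw [Nat.card_zpowers, hx]
    refine ⟨IsPGroup.of_card (n := 1) (by rw [hc, pow_one]), ?_⟩
    have := (Subgroup.zpowers x).card_mul_index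
    rw [hc, S0397.result] at this
    omega
  obtain ⟨p1, i1⟩ := hsyl g hgo
  obtain ⟨p2, i2⟩ := hsyl _ hsh
  obtain ⟨k, hk⟩ := MulAction.exists_smul_eq ↥Co0 (p1.toSylow i1) (p2.toSylow i2)
  have hmem : permHom shiftM ∈ MulAut.conj k • Subgroup.zpowers g := by
    have := congrArg (fun S : Sylow 23 ↥Co0 => (S : Subgroup ↥Co0)) hk
    simp only [Sylow.coe_subgroup_smul] at this
    change MulAut.conj k • Subgroup.zpowers g = Subgroup.zpowers (permHom shiftM) at this
    rw [this]
    exact Subgroup.mem_zpowers _
  obtain ⟨y, hy, hye⟩ := hmem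
  obtain ⟨n, rfl⟩ := Subgroup.mem_zpowers_iff.1 hy
  have hk' := commute_shift_central (t := k * t * k⁻¹)
    (by
      rw [← hye]
      show Commute (k * t * k⁻¹) (k * g ^ n * k⁻¹)
      exact (hcomm.zpow_right n).map (MulAut.conj k).toMonoidHom)
    (by rw [conj_pow, ht4, mul_one, mul_inv_cancel])
  rw [map_mul, map_mul, map_inv, conj_eq_one_iff] at hk'
  exact hk'

end Cfsg.Agent.MonsterType
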