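import Mathlib
import Cfsg.Prelude.Def_MonsterType
import Cfsg.Agent.MonsterType.TwentyThree
import Cfsg.Agent.S5408

/-! Classes of elements of the extraspecial subgroup in Monster type. -/

set_option autoImplicit false

namespace Cfsg.Agent.MonsterType
open Cfsg Cfsg.Agent

variable {G : Type*} [Group G] {z : G} {Q : Subgroup (Subgroup.centralizer ({z} : Set G))}
  [Q.Normal]

/-- the hypothesis package without the conjugate of `z` -/
structure Data (Q : Subgroup (Subgroup.centralizer ({z} : Set G))) [Q.Normal]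
    (e : (Subgroup.centralizer ({z} : Set G)) ⧸ Q ≃* Spor.Co1)
    (ψ : leechLattice → Q ⧸ Subgroup.center Q) : Prop where
  hz : orderOf z = 2
  ext : IsExtraspecial 2 Q
  card : Nat.card Q = 2 ^ 25
  hψ : IsLeechModTwoIso Q e ψ

theorem data_of (hM : IsOfMonsterType z Q) {e : (Subgroup.centralizer ({z} : Set G)) ⧸ Q ≃* Spor.Co1}
    {ψ : leechLattice → Q ⧸ Subgroup.center Q} (hψ : IsLeechModTwoIso Q e ψ) : Data Q e ψ :=
  ⟨hM.1.1, hM.1.2.2.1, hM.1.2.2.2.1, hψ⟩

/-- the quotient map onto the simple quotient -/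
def proj (e : (Subgroup.centralizer ({z} : Set G)) ⧸ Q ≃* Spor.Co1) :
    Subgroup.centralizer ({z} : Set G) →* Spor.Co1 :=
  e.toMonoidHom.comp (QuotientGroup.mk' Q)

theorem proj_eq_one {e : (Subgroup.centralizer ({z} : Set G)) ⧸ Q ≃* Spor.Co1}
    {x : Subgroup.centralizer ({z} : Set G)} : proj e x = 1 ↔ x ∈ Q := by
  show e (QuotientGroup.mk x) = 1 ↔ _
  rw [MulEquiv.map_eq_one_iff, QuotientGroup.eq_one_iff]

theorem proj_surjective (e : (Subgroup.centralizer ({z} : Set G)) ⧸ Q ≃* Spor.Co1) :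
    Function.Surjective (proj e) :=
  e.surjective.comp (QuotientGroup.mk'_surjective Q)

/-- `z` inside its centralizer -/
def zc (z : G) : Subgroup.centralizer ({z} : Set G) :=
  ⟨z, Subgroup.mem_centralizer_singleton_iff.2 rfl⟩

theorem commute_zc (y : Subgroup.centralizer ({z} : Set G)) : Commute (zc z) y :=
  Subtype.ext (Subgroup.mem_centralizer_singleton_iff.1 y.2).symm

variable {e : (Subgroup.centralizer ({z} : Set G)) ⧸ Q ≃* Spor.Co1}
  {ψ : leechLattice → Q ⧸ Subgroup.center Q}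

/-- type of an element of `Q` -/
def Typ (ψ : leechLattice → Q ⧸ Subgroup.center Q) (N : ℤ) (x : Q) : Prop :=
  ∃ v, v ∈ Leech.layer N ∧ ψ v = QuotientGroup.mk x

section
variable (d : Data Q e ψ)
include d

theorem z_sq : z * z = 1 := by
  rw [← sq, ← d.hz]; exact pow_orderOf_eq_one z

theorem z_ne_one : z ≠ 1 := fun h => by
  have := d.hz
  rw [h, orderOf_one] at this
  omega

theorem mem_of_commute_23 {x y : Subgroup.centralizer ({z} : Set G)} (hx : x ^ 2 = 1)
    (hy : orderOf (proj e y) = 23) (hxy : Commute x y) : x ∈ Q :=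
  proj_eq_one.1 (no_commute_23 (by rw [← map_pow, hx, map_one]) hy (hxy.map (proj e)))

theorem zc_mem : zc z ∈ Q := by
  obtain ⟨y, hy⟩ := proj_surjective e (rho (permHom shiftM))
  refine mem_of_commute_23 d (Subtype.ext ?_) (hy ▸ orderOf_rho_shift) (commute_zc y)
  show z ^ 2 = 1
  rw [sq, z_sq d]

theorem zq_center : (⟨zc z, zc_mem d⟩ : Q) ∈ Subgroup.center Q :=
  Subgroup.mem_center_iff.2 fun a => Subtype.ext (commute_zc (a : Subgroup.centralizer ({z} : Set G))).symm.eq

theorem zq_ne_one : (⟨zc z, zc_mem d⟩ : Q) ≠ 1 := fun h =>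
  z_ne_one d (congrArg (fun q : Q => ((q : Subgroup.centralizer ({z} : Set G)) : G)) h)

theorem center_cases {x : Q} (hx : x ∈ Subgroup.center Q) : x = 1 ∨ x = ⟨zc z, zc_mem d⟩ := by
  by_cases h : x = 1
  · exact Or.inl h
  obtain ⟨-, hu⟩ := Nat.card_eq_two_iff' (1 : Subgroup.center Q) |>.1 d.ext.2 |>.choose_spec
  have a := hu ⟨x, hx⟩ (fun e => h (congrArg Subtype.val e))
  have b := hu ⟨_, zq_center d⟩ (fun e => zq_ne_one d (congrArg Subtype.val e))
  exact Or.inr (congrArg Subtype.val (a.trans b.symm))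

theorem center_of_coe {x : Q} (hx : x ∈ Subgroup.center Q) :
    ((x : Subgroup.centralizer ({z} : Set G)) : G) = 1 ∨
      ((x : Subgroup.centralizer ({z} : Set G)) : G) = z := by
  rcases center_cases d hx with rfl | rfl
  · exact Or.inl rfl
  · exact Or.inr rfl

theorem psi_zero : ψ 0 = 1 := by
  have := d.hψ.1 0 0
  rw [add_zero] at this
  exact left_eq_mul.1 this

theorem psi_congr {v w : leechLattice} : ψ v = ψ w ↔ Leech.cls v = Leech.cls w := by
  have hneg : ψ (-w) = (ψ w)⁻¹ := by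
    refine eq_inv_of_mul_eq_one_left ?_
    rw [← d.hψ.1, neg_add_cancel, psi_zero d]
  rw [Leech.cls_eq_iff, ← mul_inv_eq_one, ← hneg, ← d.hψ.1, d.hψ.2.2.1]
  exact exists_congr fun u => by
    constructor
    · intro h; rw [← h]; abel
    · intro h; rw [h]; abel

theorem quot_comm (a b : Q ⧸ Subgroup.center Q) : a * b = b * a := by
  obtain ⟨v, rfl⟩ := d.hψ.2.1 a
  obtain ⟨w, rfl⟩ := d.hψ.2.1 b
  rw [← d.hψ.1, ← d.hψ.1, add_comm]

theorem comm_mem_center (a b : Q) : a * b * a⁻¹ * b⁻¹ ∈ Subgroup.center Q := by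
  rw [← QuotientGroup.eq_one_iff]
  simp only [QuotientGroup.mk_mul, QuotientGroup.mk_inv]
  rw [quot_comm d (QuotientGroup.mk a) (QuotientGroup.mk b)]
  group

theorem comm_eq_z {a b : Q} (h : a * b * a⁻¹ * b⁻¹ ≠ 1) :
    a * b * a⁻¹ * b⁻¹ = ⟨zc z, zc_mem d⟩ :=
  (center_cases d (comm_mem_center d a b)).resolve_left h

/-- shift of a noncentral element by the central involution -/
theorem conj_mul_z {x : Q} (hx : x ∉ Subgroup.center Q) :
    ∃ q : Q, q * x * q⁻¹ = x * ⟨zc z, zc_mem d⟩ := by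
  rw [Subgroup.mem_center_iff] at hx
  push Not at hx
  obtain ⟨q, hq⟩ := hx
  refine ⟨q, ?_⟩
  have h := comm_eq_z d (a := q) (b := x) fun e => hq (by
    rw [mul_inv_eq_one, mul_inv_eq_iff_eq_mul] at e; exact e)
  rw [mul_inv_eq_iff_eq_mul] at h
  rw [h]
  exact (Subgroup.mem_center_iff.1 (zq_center d) x).symm

theorem typ_notMem_center {N : ℤ} (hN : N = 32 ∨ N = 48 ∨ N = 64) {x : Q} (hx : Typ ψ N x) :
    x ∉ Subgroup.center Q := by
  obtain ⟨v, hv, hvx⟩ := hx
  intro hc
  rw [(QuotientGroup.eq_one_iff x).2 hc, ← psi_zero d, psi_congr d] at hvx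
  have h0 : (0 : leechLattice) ∈ Leech.layer 0 := by
    show sqNorm ((0 : leechLattice) : GolayPt → ℤ) = 0
    exact Leech.sqNorm_eq_zero.2 rfl
  exact Set.disjoint_left.1 (Leech.image_disjoint (M := N) (N := 0) (by omega) (by norm_num) (by omega))
    ⟨v, hv, rfl⟩ ⟨0, h0, hvx.symm⟩

theorem typ_conj {N : ℤ} {x : Q} (hx : Typ ψ N x) (h : Subgroup.centralizer ({z} : Set G)) :
    Typ ψ N ⟨h * x * h⁻¹, (inferInstance : Q.Normal).conj_mem _ x.2 h⟩ := by
  obtain ⟨v, hv, hvx⟩ := hx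
  obtain ⟨g, hg⟩ := QuotientGroup.mk'_surjective _ (proj e h)
  refine ⟨g • v, ?_, d.hψ.2.2.2 h g hg v x hvx⟩
  show sqNorm _ = N
  rw [Leech.sqNorm_smul]; exact hv

theorem exists_fix {v : leechLattice} {x y : Q} (hx : ψ v = QuotientGroup.mk x)
    (hy : y ∉ Subgroup.center Q) {g : ↥Co0} (hg : ψ (g • v) = QuotientGroup.mk y) :
    ∃ h : Subgroup.centralizer ({z} : Set G), proj e h = rho g ∧
      h * (x : Subgroup.centralizer ({z} : Set G)) * h⁻¹ = y := by
  obtain ⟨h, hh⟩ := proj_surjective e (rho g)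
  have hc := d.hψ.2.2.2 h g hh.symm v x hx
  rw [hg] at hc
  set x' : Q := ⟨h * x * h⁻¹, (inferInstance : Q.Normal).conj_mem _ x.2 h⟩ with hx'
  rcases center_cases d (x := x'⁻¹ * y) (QuotientGroup.eq.1 hc.symm) with h1 | h1
  · exact ⟨h, hh, congrArg Subtype.val (inv_mul_eq_one.1 h1)⟩
  · have hxy : y = x' * ⟨zc z, zc_mem d⟩ := by rw [← h1, mul_inv_cancel_left]
    have hx'c : x' ∉ Subgroup.center Q := fun hc' => hy (hxy ▸ mul_mem hc' (zq_center d))
    obtain ⟨q, hq⟩ := conj_mul_z d hx'c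
    rw [← hxy] at hq
    refine ⟨(q : Subgroup.centralizer ({z} : Set G)) * h, ?_, ?_⟩
    · rw [map_mul, proj_eq_one.2 q.2, one_mul, hh]
    · rw [← hq, hx']
      simp only [Subgroup.coe_mul, Subgroup.coe_inv]
      group

/-- elements of the same type are conjugate in the centralizer -/
theorem typ_trans {N : ℤ} (hN : N = 32 ∨ N = 48 ∨ N = 64) {x y : Q} (hx : Typ ψ N x)
    (hy : Typ ψ N y) : ∃ h : Subgroup.centralizer ({z} : Set G),
      h * (x : Subgroup.centralizer ({z} : Set G)) * h⁻¹ = y := by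
  have hyc := typ_notMem_center d hN hy
  obtain ⟨a, ha, hax⟩ := hx
  obtain ⟨b, hb, hby⟩ := hy
  obtain ⟨g, hg⟩ := Leech.trans_cls hN ha hb
  obtain ⟨h, -, hh⟩ := exists_fix d hax hyc (g := g) (by rw [(psi_congr d).2 hg, hby])
  exact ⟨h, hh⟩

theorem isConj_of_typ {N : ℤ} (hN : N = 32 ∨ N = 48 ∨ N = 64) {x y : Q} (hx : Typ ψ N x)
    (hy : Typ ψ N y) (h : IsConj z ((x : Subgroup.centralizer ({z} : Set G)) : G)) :
    IsConj z ((y : Subgroup.centralizer ({z} : Set G)) : G) := by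
  obtain ⟨k, hk⟩ := typ_trans d hN hx hy
  exact h.trans (isConj_iff.2 ⟨(k : G), congrArg Subtype.val hk⟩)

theorem proj_centralizer {x : Q} {v : leechLattice} (hx : ψ v = QuotientGroup.mk x)
    (hxc : x ∉ Subgroup.center Q) :
    (Subgroup.centralizer ({(x : Subgroup.centralizer ({z} : Set G))} :
      Set (Subgroup.centralizer ({z} : Set G)))).map (proj e) = (stabCls v).map rho := by
  refine le_antisymm ?_ ?_
  · rintro _ ⟨h, hh, rfl⟩
    obtain ⟨g, hg⟩ := QuotientGroup.mk'_surjective _ (proj e h)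
    refine ⟨g, ?_, hg⟩
    have hc := d.hψ.2.2.2 h g hg v x hx
    have heq : (⟨h * x * h⁻¹, (inferInstance : Q.Normal).conj_mem _ x.2 h⟩ : Q) = x := by
      refine Subtype.ext ?_
      show h * x * h⁻¹ = _
      rw [Subgroup.mem_centralizer_singleton_iff.1 hh, mul_inv_cancel_right]
    rw [heq, ← hx] at hc
    exact (psi_congr d).1 hc
  · rintro _ ⟨g, hg, rfl⟩
    obtain ⟨h, hh, hhx⟩ := exists_fix d hx hxc (g := g) (by rw [(psi_congr d).2 hg, hx])
    exact ⟨h, Subgroup.mem_centralizer_singleton_iff.2 (mul_inv_eq_iff_eq_mul.1 hhx), hh⟩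

section squares
open S5408

theorem sq_iff {x : Q} {v : leechLattice} (hvx : ψ v = QuotientGroup.mk x) :
    x ^ 2 = 1 ↔ ((sqNorm (v : GolayPt → ℤ) / 16 : ℤ) : ZMod 2) = 0 := by
  classical
  have hz0 := z_sq d
  let χ : Q → ZMod 2 := fun x => if x = 1 then 0 else 1
  have hχ : ∀ a ∈ Subgroup.center Q, ∀ b ∈ Subgroup.center Q, χ (a * b) = χ a + χ b := by
    intro a ha b hb
    have hzz : (⟨zc z, zc_mem d⟩ : Q) * ⟨zc z, zc_mem d⟩ = 1 :=
      Subtype.ext (Subtype.ext hz0)
    rcases center_cases d ha with rfl | rfl <;> rcases center_cases d hb with rfl | rfl <;>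
      simp [χ, hzz, zq_ne_one d] <;> rfl
  have hcen : ∀ a b : Q, comm' a b ∈ Subgroup.center Q := fun a b => by
    have := comm_mem_center d b⁻¹ a⁻¹
    simpa [comm'] using this
  have hsq : ∀ a : Q, a ^ 2 ∈ Subgroup.center Q := fun a => by
    obtain ⟨v, hv⟩ := d.hψ.2.1 (QuotientGroup.mk a)
    rw [← QuotientGroup.eq_one_iff, QuotientGroup.mk_pow, ← hv, sq, ← d.hψ.1, d.hψ.2.2.1]
    exact ⟨v, rfl⟩
  have hmk : ∀ {a b : Q}, (QuotientGroup.mk a : Q ⧸ Subgroup.center Q) = QuotientGroup.mk b →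
      ∃ c ∈ Subgroup.center Q, b = a * c := fun {a b} h =>
    ⟨a⁻¹ * b, QuotientGroup.eq.1 h, by group⟩
  have hsq_congr : ∀ {a b : Q}, (QuotientGroup.mk a : Q ⧸ Subgroup.center Q) = QuotientGroup.mk b →
      a ^ 2 = b ^ 2 := by
    intro a b h
    obtain ⟨c, hc, rfl⟩ := hmk h
    rw [(show Commute a c from Subgroup.mem_center_iff.1 hc a).mul_pow]
    rcases center_cases d hc with rfl | rfl
    · rw [one_pow, mul_one]
    · rw [sq (⟨zc z, zc_mem d⟩ : Q), show (⟨zc z, zc_mem d⟩ : Q) * ⟨zc z, zc_mem d⟩ = 1 from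
        Subtype.ext (Subtype.ext hz0), mul_one]
  let sec : leechLattice → Q := fun v => (ψ v).out
  have hsec : ∀ v, (QuotientGroup.mk (sec v) : Q ⧸ Subgroup.center Q) = ψ v :=
    fun v => QuotientGroup.out_eq' _
  let f : leechLattice → ZMod 2 := fun v => χ (sec v ^ 2)
  let B : leechLattice → leechLattice → ZMod 2 := fun v w => χ (comm' (sec v) (sec w))
  have hfadd : ∀ v w, f (v + w) = f v + f w + B v w := by
    intro v w
    have h : sec (v + w) ^ 2 = (sec v * sec w) ^ 2 :=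
      hsq_congr (by rw [hsec, d.hψ.1, QuotientGroup.mk_mul, hsec, hsec])
    simp only [f, B]
    rw [h, sq_mul_of_central _ _ (hcen _ _), hχ _ (mul_mem (hsq _) (hsq _)) _ (hcen _ _),
      hχ _ (hsq _) _ (hsq _)]
  have hBadd : ∀ u v w, B (u + v) w = B u w + B v w := by
    intro u v w
    obtain ⟨a, ha, hae⟩ := hmk (a := sec u * sec v) (b := sec (u + v))
      (by rw [hsec, d.hψ.1, QuotientGroup.mk_mul, hsec, hsec])
    simp only [B]
    rw [hae, show sec w = sec w * 1 from (mul_one _).symm, comm'_congr _ _ a 1 ha (one_mem _),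
      mul_one, comm'_mul_left _ _ _ (hcen _ _), hχ _ (hcen _ _) _ (hcen _ _)]
  have htwo : ∀ v w, f (v + (w + w)) = f v := by
    intro v w
    simp only [f]
    congr 1
    refine hsq_congr ?_
    rw [hsec, hsec, d.hψ.1, (d.hψ.2.2.1 (w + w)).2 ⟨w, rfl⟩, mul_one]
  have hinv : ∀ (g : Co0) (v : leechLattice), f (g • v) = f v := by
    intro g v
    obtain ⟨h, hh⟩ := proj_surjective e (rho g)
    have hc := d.hψ.2.2.2 h g hh.symm v (sec v) (hsec v).symm
    rw [← hsec (g • v)] at hc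
    have h2 := congrArg (fun t : Q => (t : Subgroup.centralizer ({z} : Set G))) (hsq_congr hc)
    simp only [SubgroupClass.coe_pow] at h2
    rw [conj_pow] at h2
    have hiff : sec (g • v) ^ 2 = 1 ↔ sec v ^ 2 = 1 := by
      have hc1 : ∀ t : Q, t ^ 2 = 1 ↔ (t : Subgroup.centralizer ({z} : Set G)) ^ 2 = 1 := fun t => by
        rw [← SubgroupClass.coe_pow, OneMemClass.coe_eq_one]
      rw [hc1, hc1 (sec v), h2, conj_eq_one_iff]
    simp only [f, χ, hiff]
  have hBsymm : ∀ u v, B u v = B v u := fun u v => by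
    have h1 := hfadd u v
    have h2 := hfadd v u
    rw [add_comm v u, h1, add_comm (f v)] at h2
    exact add_left_cancel h2
  have hquad : ∀ u v w, f (u + v + w) + f u + f v + f w = f (u + v) + f (u + w) + f (v + w) := by
    intro u v w
    rw [hfadd (u + v) w, hfadd u v, hfadd u w, hfadd v w, hBadd]
    ring_nf
  have hne : ∃ v, f v ≠ 0 := by
    by_contra! hall
    have hexp : ∀ a : Q, a ^ 2 = 1 := by
      intro a
      obtain ⟨v, hv⟩ := d.hψ.2.1 (QuotientGroup.mk a)
      have h0 := hall v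
      have : a ^ 2 = sec v ^ 2 := hsq_congr (by rw [hsec, hv])
      rw [this]
      by_contra hn
      simp [f, χ, hn] at h0
    have htop : Subgroup.center Q = ⊤ := (Subgroup.eq_top_iff' _).2 fun a =>
      Subgroup.mem_center_iff.2 fun b => by
        have hi : ∀ t : Q, t⁻¹ = t := fun t => inv_eq_of_mul_eq_one_right (by rw [← sq, hexp])
        have := hi (a * b)
        rw [mul_inv_rev, hi, hi] at this
        exact this
    have := d.ext.2
    rw [htop, Subgroup.card_top, d.card] at this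
    norm_num at this
  rw [← Leech.form_unique f htwo hquad hinv hne v,
    ← hsq_congr (a := sec v) (b := x) (by rw [hsec, hvx])]
  simp only [f, χ]
  split_ifs with h <;> simp [h]

theorem not_typ48_of_sq {x : Q} (hx : x ^ 2 = 1) : ¬ Typ ψ 48 x := by
  rintro ⟨v, hv, hvx⟩
  have h := (sq_iff d hvx).1 hx
  rw [show sqNorm (v : GolayPt → ℤ) = 48 from hv] at h
  revert h; decide

end squares

theorem inv_cases {x : Q} (hx : x ^ 2 = 1) :
    x ∈ Subgroup.center Q ∨ Typ ψ 32 x ∨ Typ ψ 64 x := by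
  obtain ⟨v, hv⟩ := d.hψ.2.1 (QuotientGroup.mk x)
  obtain ⟨w, hw, he⟩ := Leech.exists_short v
  have hwx : ψ w = QuotientGroup.mk x := ((psi_congr d).2 he.symm).trans hv
  rcases Leech.short_cases w hw with rfl | h | h | h
  · left
    rw [psi_zero d] at hwx
    exact (QuotientGroup.eq_one_iff x).1 hwx.symm
  · exact Or.inr (Or.inl ⟨w, h, hwx⟩)
  · exact absurd ⟨w, h, hwx⟩ (not_typ48_of_sq d hx)
  · exact Or.inr (Or.inr ⟨w, h, hwx⟩)

/-- the commutator map against a fixed element -/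
theorem two_step (w : Q) (H : Subgroup Q) :
    Nat.card ↥H ≤ 2 * Nat.card ↥(H ⊓ Subgroup.centralizer {w}) ∧
      (Subgroup.centralizer ({w} : Set Q)).index ≤ 2 := by
  have : Finite Q := Nat.finite_of_card_ne_zero (by rw [d.card]; norm_num)
  let φ : Q →* Subgroup.center Q :=
    { toFun := fun q => ⟨q * w * q⁻¹ * w⁻¹, comm_mem_center d q w⟩
      map_one' := Subtype.ext (by simp)
      map_mul' := fun a b => Subtype.ext (by
        show a * b * w * (a * b)⁻¹ * w⁻¹ = (a * w * a⁻¹ * w⁻¹) * (b * w * b⁻¹ * w⁻¹)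
        have hc := Subgroup.mem_center_iff.1 (comm_mem_center d b w)
        calc a * b * w * (a * b)⁻¹ * w⁻¹
            = a * (b * w * b⁻¹ * w⁻¹) * w * a⁻¹ * w⁻¹ := by group
          _ = (b * w * b⁻¹ * w⁻¹) * (a * w * a⁻¹ * w⁻¹) := by rw [hc a]; group
          _ = _ := (hc _).symm) }
  have hker : φ.ker = Subgroup.centralizer ({w} : Set Q) := by
    ext q
    rw [MonoidHom.mem_ker, Subgroup.mem_centralizer_singleton_iff, Subtype.ext_iff]
    show q * w * q⁻¹ * w⁻¹ = 1 ↔ q * w = w * q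
    rw [mul_inv_eq_one, mul_inv_eq_iff_eq_mul]
  have hidx : (Subgroup.centralizer ({w} : Set Q)).index ≤ 2 := by
    rw [← hker, Subgroup.index_ker, ← d.ext.2]
    exact Subgroup.card_le_card_group _
  refine ⟨?_, hidx⟩
  have h1 := Subgroup.index_inf_le (H := H) (K := Subgroup.centralizer ({w} : Set Q))
  have h2 := H.card_mul_index
  have h3 := (H ⊓ Subgroup.centralizer ({w} : Set Q)).card_mul_index
  have hpos : 0 < H.index := Nat.pos_of_ne_zero Subgroup.index_ne_zero_of_finite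
  refine Nat.le_of_mul_le_mul_right ?_ hpos
  rw [h2, ← h3, mul_comm 2, mul_assoc]
  refine Nat.mul_le_mul_left _ (h1.trans ?_)
  rw [mul_comm 2]
  exact Nat.mul_le_mul_left _ hidx

theorem card_centralizer {x : Q} (hx : x ∉ Subgroup.center Q) :
    Nat.card ↥(Subgroup.centralizer ({x} : Set Q)) = 2 ^ 24 := by
  have : Finite Q := Nat.finite_of_card_ne_zero (by rw [d.card]; norm_num)
  have hidx := (two_step d x ⊤).2
  have h1 : (Subgroup.centralizer ({x} : Set Q)).index ≠ 1 := fun h => hx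
    (Subgroup.mem_center_iff.2 fun a => Subgroup.mem_centralizer_singleton_iff.1
      ((Subgroup.index_eq_one.1 h) ▸ Subgroup.mem_top a))
  have h0 := (Subgroup.centralizer ({x} : Set Q)).index_ne_zero_of_finite
  have h2 := (Subgroup.centralizer ({x} : Set Q)).card_mul_index
  have h3 : (Subgroup.centralizer ({x} : Set Q)).index = 2 := by omega
  rw [h3, d.card] at h2
  omega

theorem card_mul_centralizer (U : Subgroup Q) :
    Nat.card U * Nat.card ↥(Subgroup.centralizer (U : Set Q)) ≤ 2 * Nat.card Q := by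
  have : Finite Q := Nat.finite_of_card_ne_zero (by rw [d.card]; norm_num)
  induction U using WellFoundedGT.induction with
  | ind U ih =>
    by_cases htop : U = ⊤
    · subst htop
      rw [Subgroup.coe_top, Subgroup.centralizer_univ, Subgroup.card_top, d.ext.2, mul_comm]
    obtain ⟨w, hw⟩ : ∃ w, w ∉ U := by
      by_contra! h
      exact htop ((Subgroup.eq_top_iff' _).2 h)
    set V := U ⊔ Subgroup.zpowers w with hV
    have hlt : U < V := lt_of_le_of_ne le_sup_left fun e => hw (e ▸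
      (le_sup_right : Subgroup.zpowers w ≤ V) (Subgroup.mem_zpowers w))
    have hV2 := ih V hlt
    have hle : Subgroup.centralizer (U : Set Q) ⊓ Subgroup.centralizer {w} ≤
        Subgroup.centralizer (V : Set Q) := by
      intro q hq
      have hsub : V ≤ Subgroup.centralizer ({q} : Set Q) := sup_le
        (fun u hu => Subgroup.mem_centralizer_singleton_iff.2
          (Subgroup.mem_centralizer_iff.1 hq.1 u hu))
        (Subgroup.zpowers_le.2 (Subgroup.mem_centralizer_singleton_iff.2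
          (Subgroup.mem_centralizer_singleton_iff.1 hq.2).symm))
      exact Subgroup.mem_centralizer_iff.2 fun v hv =>
        Subgroup.mem_centralizer_singleton_iff.1 (hsub hv)
    have h1 := (two_step d w (Subgroup.centralizer (U : Set Q))).1.trans
      (Nat.mul_le_mul_left 2 (Subgroup.card_le_of_le hle))
    have h2 : 2 * Nat.card U ≤ Nat.card V := by
      obtain ⟨k, hk⟩ := Subgroup.card_dvd_of_le hlt.le
      have hlt' : Nat.card U < Nat.card V := by
        by_contra h
        exact hlt.ne (Subgroup.eq_of_le_of_card_ge hlt.le (not_lt.1 h))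
      rw [hk, mul_comm]
      refine Nat.mul_le_mul_left _ ?_
      rcases k with _ | _ | k <;> simp_all
    calc Nat.card U * Nat.card ↥(Subgroup.centralizer (U : Set Q))
        ≤ Nat.card U * (2 * Nat.card ↥(Subgroup.centralizer (V : Set Q))) := Nat.mul_le_mul_left _ h1
      _ = 2 * Nat.card U * Nat.card ↥(Subgroup.centralizer (V : Set Q)) := by ring
      _ ≤ Nat.card V * Nat.card ↥(Subgroup.centralizer (V : Set Q)) := Nat.mul_le_mul_right _ h2
      _ ≤ _ := hV2

theorem card_abelian_le {U : Subgroup Q} (h : ∀ a ∈ U, ∀ b ∈ U, a * b = b * a) :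
    Nat.card U ≤ 2 ^ 13 := by
  have : Finite Q := Nat.finite_of_card_ne_zero (by rw [d.card]; norm_num)
  have h1 : Nat.card U ≤ Nat.card ↥(Subgroup.centralizer (U : Set Q)) :=
    Subgroup.card_le_of_le fun a ha => Subgroup.mem_centralizer_iff.2 fun b hb => h b hb a ha
  have h2 := (Nat.mul_le_mul_left (Nat.card U) h1).trans (card_mul_centralizer d U)
  rw [d.card] at h2
  exact Nat.mul_self_le_mul_self_iff.1 (h2.trans (by norm_num))

end

theorem commute_iff (d : Data Q e ψ) {q x : Q} {v w : leechLattice} (hv : ψ v = QuotientGroup.mk q)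
    (hw : ψ w = QuotientGroup.mk x) (hx : x ^ 2 = 1) :
    q * x = x * q ↔ (16 : ℤ) ∣ dotInt (v : GolayPt → ℤ) (w : GolayPt → ℤ) := by
  have hz0 := z_sq d
  have hvw : ψ (v + w) = QuotientGroup.mk (q * x) := by rw [d.hψ.1, hv, hw, QuotientGroup.mk_mul]
  have h1 := sq_iff d hv
  have h2 := (sq_iff d hw).1 hx
  have h3 := sq_iff d hvw
  have hn : sqNorm ((v + w : leechLattice) : GolayPt → ℤ) = sqNorm (v : GolayPt → ℤ) +
      2 * dotInt (v : GolayPt → ℤ) (w : GolayPt → ℤ) + sqNorm (w : GolayPt → ℤ) := by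
    rw [AddSubgroup.coe_add, Leech.norm_add]
  have a := Leech.sixteen_dvd_sqNorm v.2
  have b := Leech.sixteen_dvd_sqNorm w.2
  have c := Leech.sixteen_dvd_sqNorm (v + w).2
  rw [ZMod.intCast_zmod_eq_zero_iff_dvd] at h1 h2 h3
  have key : (16 : ℤ) ∣ dotInt (v : GolayPt → ℤ) (w : GolayPt → ℤ) ↔ ((q * x) ^ 2 = 1 ↔ q ^ 2 = 1) := by
    rw [h3, h1]
    omega
  rw [key]
  have hxi : x⁻¹ = x := inv_eq_of_mul_eq_one_right (by rw [← sq]; exact hx)
  constructor
  · intro h
    rw [(show Commute q x from h).mul_pow, hx, mul_one]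
  · intro h
    by_contra hne
    have hc := comm_eq_z d (a := x) (b := q) fun e1 => hne (by
      rw [mul_inv_eq_one, mul_inv_eq_iff_eq_mul] at e1; exact e1.symm)
    have hcen := zq_center d
    set ζ : Q := ⟨zc z, zc_mem d⟩ with hζ
    have hζ1 : ζ ≠ 1 := zq_ne_one d
    have hxq : x * q = ζ * q * x := by
      rw [← hc]; group
    have hsq' : (q * x) ^ 2 = ζ * q ^ 2 := by
      calc (q * x) ^ 2 = q * (x * q) * x := by rw [sq]; group
        _ = q * ζ * q * (x * x) := by rw [hxq]; group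
        _ = ζ * q ^ 2 := by
          rw [← sq x, hx, mul_one, Subgroup.mem_center_iff.1 hcen q, sq, mul_assoc]
    have hq2 : q ^ 2 = 1 ∨ q ^ 2 = ζ := by
      refine center_cases d ?_
      rw [← QuotientGroup.eq_one_iff, QuotientGroup.mk_pow, ← hv, sq, ← d.hψ.1, d.hψ.2.2.1]
      exact ⟨v, rfl⟩
    rcases hq2 with e1 | e1
    · rw [hsq', e1, mul_one] at h
      exact hζ1 (h.2 rfl)
    · rw [hsq', e1] at h
      exact hζ1 (h.1 (Subtype.ext (Subtype.ext hz0)))

/-- a change of identification putting a given short class at the standard one -/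
theorem exists_std (d : Data Q e ψ) {x : Q} (hx : Typ ψ 32 x) :
    ∃ (e' : (Subgroup.centralizer ({z} : Set G)) ⧸ Q ≃* Spor.Co1)
      (ψ' : leechLattice → Q ⧸ Subgroup.center Q),
      Data Q e' ψ' ∧ ψ' Spor.leechU = QuotientGroup.mk x := by
  obtain ⟨v, hv, hvx⟩ := hx
  obtain ⟨g, hg⟩ := Leech.trans32 v hv
  refine ⟨e.trans (MulAut.conj (rho g)), fun w => ψ (g⁻¹ • w), ⟨d.hz, d.ext, d.card, ?_, ?_, ?_, ?_⟩, ?_⟩
  · intro a b
    simp only [Leech.smul_add', d.hψ.1]
  · intro y
    obtain ⟨w, rfl⟩ := d.hψ.2.1 y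
    exact ⟨g • w, by simp⟩
  · intro a
    show ψ (g⁻¹ • a) = 1 ↔ _
    rw [d.hψ.2.2.1]
    constructor
    · rintro ⟨y, hy⟩
      exact ⟨g • y, by rw [← Leech.smul_add', ← hy, smul_inv_smul]⟩
    · rintro ⟨y, rfl⟩
      exact ⟨g⁻¹ • y, Leech.smul_add' _ _ _⟩
  · intro h k hk a q hq
    have h' := d.hψ.2.2.2 h (g⁻¹ * k * g) (by
      show rho (g⁻¹ * k * g) = _
      rw [map_mul, map_mul, map_inv, show rho k = rho g * e (QuotientGroup.mk h) * (rho g)⁻¹ from hk]
      group) (g⁻¹ • a) q hq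
    rw [mul_smul, mul_smul, smul_inv_smul] at h'
    exact h'
  · show ψ (g⁻¹ • Spor.leechU) = _
    rw [← hvx, ← show g • v = Spor.leechU from Subtype.ext hg, inv_smul_smul]

end Cfsg.Agent.MonsterType
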