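import Mathlib
import Cfsg.Agent.MonsterType.Basic

/-! The extraspecial subgroup and its conjugates in Monster type. -/

set_option autoImplicit false

namespace Cfsg.Agent.MonsterType
open Cfsg Cfsg.Agent

variable {G : Type*} [Group G] {z : G}

/-- the part of a conjugate of `Q` inside the centralizer -/
def conjPart (Q : Subgroup (Subgroup.centralizer ({z} : Set G))) (g : G) :
    Subgroup (Subgroup.centralizer ({z} : Set G)) :=
  ((Q.map (Subgroup.centralizer ({z} : Set G)).subtype).map (MulAut.conj g).toMonoidHom).comap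
    (Subgroup.centralizer ({z} : Set G)).subtype

theorem mem_conjPart {Q : Subgroup (Subgroup.centralizer ({z} : Set G))} {g : G}
    {y : Subgroup.centralizer ({z} : Set G)} :
    y ∈ conjPart Q g ↔ ∃ q : Q, g * ((q : Subgroup.centralizer ({z} : Set G)) : G) * g⁻¹ = y := by
  constructor
  · rintro ⟨_, ⟨q, hq, rfl⟩, he⟩
    exact ⟨⟨q, hq⟩, he⟩
  · rintro ⟨q, hq⟩
    exact ⟨_, ⟨_, q.2, rfl⟩, hq⟩

variable {Q : Subgroup (Subgroup.centralizer ({z} : Set G))} [Q.Normal] [Finite G]
  {e : (Subgroup.centralizer ({z} : Set G)) ⧸ Q ≃* Spor.Co1}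
  {ψ : leechLattice → Q ⧸ Subgroup.center Q} (d : Data Q e ψ)

section
include d

theorem two_power_23 {x : Subgroup.centralizer ({z} : Set G)} (hx : x ∈ Q) (ho : orderOf x = 23) :
    False := by
  have h := orderOf_dvd_natCard (⟨x, hx⟩ : Q)
  rw [← Subgroup.orderOf_coe (⟨x, hx⟩ : Q), ho, d.card] at h
  have := (show Nat.Prime 23 by norm_num).dvd_of_dvd_pow h
  norm_num at this

variable {g : G} {x : Q}
  (hg : g * z * g⁻¹ = ((x : Subgroup.centralizer ({z} : Set G)) : G))
  (hx : x ∉ Subgroup.center Q)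
include hg hx

theorem conj_ne : g * z * g⁻¹ ≠ z := fun h => hx (by
  have : x = ⟨zc z, zc_mem d⟩ := Subtype.ext (Subtype.ext (hg.symm.trans h))
  rw [this]
  exact zq_center d)

theorem exists_back {v : leechLattice} (hv : ψ v = QuotientGroup.mk x)
    (h23 : ∃ y ∈ stabCls v, orderOf y = 23) :
    ∃ q₀ : Q, ((q₀ : Subgroup.centralizer ({z} : Set G)) : G) = g⁻¹ * z * g ∧
      q₀ ∉ Subgroup.center Q := by
  have hzs : Commute z (g * z * g⁻¹) := by
    rw [hg]
    exact congrArg Subtype.val (commute_zc (x : Subgroup.centralizer ({z} : Set G))).eq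
  have hz0 : g⁻¹ * z * g ∈ Subgroup.centralizer ({z} : Set G) := by
    rw [Subgroup.mem_centralizer_singleton_iff]
    have := (hzs.map (MulAut.conj g⁻¹).toMonoidHom).eq
    simpa [mul_assoc] using this
  have : Fact (Nat.Prime 23) := ⟨by norm_num⟩
  obtain ⟨y, hy, hy23⟩ := h23
  have hmem : rho y ∈ (stabCls v).map rho := ⟨y, hy, rfl⟩
  rw [← proj_centralizer d hv hx] at hmem
  obtain ⟨c, hc, hce⟩ := hmem
  have hdvd : 23 ∣ Nat.card ↥(Subgroup.centralizer
      ({(x : Subgroup.centralizer ({z} : Set G))} : Set (Subgroup.centralizer ({z} : Set G)))) := by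
    refine dvd_trans ?_ (orderOf_dvd_natCard ⟨c, hc⟩)
    rw [Subgroup.orderOf_mk, ← orderOf_rho_of_23 hy23, ← hce]
    exact orderOf_map_dvd _ _
  obtain ⟨⟨c', hc'⟩, hc'23⟩ := exists_prime_orderOf_dvd_card' 23 hdvd
  rw [Subgroup.orderOf_mk] at hc'23
  have hcs : Commute ((c' : G)) (g * z * g⁻¹) := by
    rw [hg]
    exact congrArg Subtype.val (Subgroup.mem_centralizer_singleton_iff.1 hc')
  have hyC : g⁻¹ * c' * g ∈ Subgroup.centralizer ({z} : Set G) := by
    rw [Subgroup.mem_centralizer_singleton_iff]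
    have := (hcs.map (MulAut.conj g⁻¹).toMonoidHom).eq
    simpa [mul_assoc] using this
  set y' : Subgroup.centralizer ({z} : Set G) := ⟨g⁻¹ * c' * g, hyC⟩ with hy'
  have hy'23 : orderOf y' = 23 := by
    rw [← Subgroup.orderOf_coe, hy', ← hc'23, ← Subgroup.orderOf_coe c']
    have := orderOf_injective (MulAut.conj g⁻¹).toMonoidHom (MulAut.conj g⁻¹).injective (c' : G)
    simpa using this
  have hproj : orderOf (proj e y') = 23 := by
    refine orderOf_eq_prime ?_ fun h => two_power_23 d (proj_eq_one.1 h) hy'23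
    rw [← map_pow, ← hy'23, pow_orderOf_eq_one, map_one]
  have hcomm : Commute (⟨_, hz0⟩ : Subgroup.centralizer ({z} : Set G)) y' := by
    refine Subtype.ext ?_
    have h1 : Commute z (c' : G) := congrArg Subtype.val (commute_zc c').eq
    have := (h1.map (MulAut.conj g⁻¹).toMonoidHom).eq
    simpa [hy', mul_assoc] using this
  have hsq : (⟨_, hz0⟩ : Subgroup.centralizer ({z} : Set G)) ^ 2 = 1 := by
    refine Subtype.ext ?_
    show (g⁻¹ * z * g) ^ 2 = 1
    rw [sq, show g⁻¹ * z * g * (g⁻¹ * z * g) = g⁻¹ * (z * z) * g by group, z_sq d]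
    group
  refine ⟨⟨_, mem_of_commute_23 d hsq hproj hcomm⟩, rfl, fun hcen => ?_⟩
  rcases center_of_coe d hcen with h | h
  · exact z_ne_one d (by
      have h' : g⁻¹ * z * g = 1 := h
      calc z = g * (g⁻¹ * z * g) * g⁻¹ := by group
        _ = 1 := by rw [h']; group)
  · exact conj_ne d hg hx (by
      have h' : g⁻¹ * z * g = z := h
      conv_lhs => rw [← h']
      group)

variable {q₀ : Q} (hq₀ : ((q₀ : Subgroup.centralizer ({z} : Set G)) : G) = g⁻¹ * z * g)
  (hq₀c : q₀ ∉ Subgroup.center Q)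

omit hg hx in
include hq₀ hq₀c in
theorem card_conjPart : Nat.card ↥(conjPart Q g) = 2 ^ 24 := by
  rw [← card_centralizer d hq₀c]
  have hiff : ∀ q : Q, g * ((q : Subgroup.centralizer ({z} : Set G)) : G) * g⁻¹ ∈
      Subgroup.centralizer ({z} : Set G) ↔ q ∈ Subgroup.centralizer ({q₀} : Set Q) := by
    intro q
    rw [Subgroup.mem_centralizer_singleton_iff, Subgroup.mem_centralizer_singleton_iff]
    set u : G := ((q : Subgroup.centralizer ({z} : Set G)) : G) with hu
    constructor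
    · intro h
      refine Subtype.ext (Subtype.ext ?_)
      show u * ((q₀ : Subgroup.centralizer ({z} : Set G)) : G) =
        ((q₀ : Subgroup.centralizer ({z} : Set G)) : G) * u
      rw [hq₀]
      calc u * (g⁻¹ * z * g) = g⁻¹ * (g * u * g⁻¹ * z) * g := by group
        _ = g⁻¹ * z * g * u := by rw [h]; group
    · intro h
      have h' : u * (g⁻¹ * z * g) = g⁻¹ * z * g * u := by
        rw [← hq₀]
        exact congrArg (fun t : Q => ((t : Subgroup.centralizer ({z} : Set G)) : G)) h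
      calc g * u * g⁻¹ * z = g * (u * (g⁻¹ * z * g)) * g⁻¹ := by group
        _ = z * (g * u * g⁻¹) := by rw [h']; group
  symm
  refine Nat.card_congr (Equiv.ofBijective
    (fun q => (⟨⟨_, (hiff q.1).2 q.2⟩, mem_conjPart.2 ⟨q.1, rfl⟩⟩ : conjPart Q g)) ⟨?_, ?_⟩)
  · intro a b h
    have := congrArg (fun t : conjPart Q g => ((t : Subgroup.centralizer ({z} : Set G)) : G)) h
    exact Subtype.ext (Subtype.ext (Subtype.ext (mul_left_cancel (mul_right_cancel this))))
  · rintro ⟨y, hy⟩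
    obtain ⟨q, hq⟩ := mem_conjPart.1 hy
    exact ⟨⟨q, (hiff q).1 (hq ▸ y.2)⟩, Subtype.ext (Subtype.ext hq)⟩

omit hx in
theorem conjPart_normalised {c y : Subgroup.centralizer ({z} : Set G)}
    (hc : c ∈ Subgroup.centralizer
      ({(x : Subgroup.centralizer ({z} : Set G))} : Set (Subgroup.centralizer ({z} : Set G))))
    (hy : y ∈ conjPart Q g) : c * y * c⁻¹ ∈ conjPart Q g := by
  obtain ⟨q, hq⟩ := mem_conjPart.1 hy
  have hcs : Commute (c : G) (g * z * g⁻¹) := by
    rw [hg]; exact congrArg Subtype.val (Subgroup.mem_centralizer_singleton_iff.1 hc)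
  have hb : g⁻¹ * c * g ∈ Subgroup.centralizer ({z} : Set G) := by
    rw [Subgroup.mem_centralizer_singleton_iff]
    have := (hcs.map (MulAut.conj g⁻¹).toMonoidHom).eq
    simpa [mul_assoc] using this
  refine mem_conjPart.2 ⟨⟨_, (inferInstance : Q.Normal).conj_mem _ q.2 ⟨_, hb⟩⟩, ?_⟩
  simp only [Subgroup.coe_mul, Subgroup.coe_inv, ← hq]
  group

omit hx in
theorem conjPart_le_centralizer : conjPart Q g ≤ Subgroup.centralizer
    ({(x : Subgroup.centralizer ({z} : Set G))} : Set (Subgroup.centralizer ({z} : Set G))) := by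
  intro y hy
  obtain ⟨q, hq⟩ := mem_conjPart.1 hy
  refine Subgroup.mem_centralizer_singleton_iff.2 (Subtype.ext ?_)
  simp only [Subgroup.coe_mul, ← hq, ← hg]
  have h1 : Commute z (((q : Subgroup.centralizer ({z} : Set G)) : G)) :=
    congrArg Subtype.val (commute_zc (q : Subgroup.centralizer ({z} : Set G))).eq
  exact (h1.map (MulAut.conj g).toMonoidHom).eq.symm

theorem abelian_inter {a b : Subgroup.centralizer ({z} : Set G)} (ha : a ∈ conjPart Q g ⊓ Q)
    (hb : b ∈ conjPart Q g ⊓ Q) : a * b = b * a := by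
  by_contra hne
  obtain ⟨p, hp⟩ := mem_conjPart.1 ha.1
  obtain ⟨q, hq⟩ := mem_conjPart.1 hb.1
  have h1 : (⟨a, ha.2⟩ : Q) * ⟨b, hb.2⟩ * (⟨a, ha.2⟩ : Q)⁻¹ * (⟨b, hb.2⟩ : Q)⁻¹ ≠ 1 := fun h =>
    hne (by
      have := congrArg Subtype.val h
      simp only [Subgroup.coe_mul, Subgroup.coe_inv, Subgroup.coe_one] at this
      rw [mul_inv_eq_one, mul_inv_eq_iff_eq_mul] at this
      exact this)
  have h2 : p * q * p⁻¹ * q⁻¹ ≠ 1 := fun h => hne (Subtype.ext (by
    have h' : p * q = q * p := by rw [mul_inv_eq_one, mul_inv_eq_iff_eq_mul] at h; exact h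
    have h'' := congrArg (fun t : Q => ((t : Subgroup.centralizer ({z} : Set G)) : G)) h'
    simp only [Subgroup.coe_mul] at h''
    simp only [Subgroup.coe_mul, ← hp, ← hq]
    calc _ = g * (((p : Subgroup.centralizer ({z} : Set G)) : G) *
          ((q : Subgroup.centralizer ({z} : Set G)) : G)) * g⁻¹ := by group
      _ = _ := by rw [h'']; group))
  have e1 := congrArg (fun t : Q => ((t : Subgroup.centralizer ({z} : Set G)) : G)) (comm_eq_z d h1)
  have e2 := congrArg (fun t : Q => ((t : Subgroup.centralizer ({z} : Set G)) : G)) (comm_eq_z d h2)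
  simp only [Subgroup.coe_mul, Subgroup.coe_inv, ← hp, ← hq] at e1 e2
  refine conj_ne d hg hx ?_
  calc g * z * g⁻¹ = g * ((zc z : Subgroup.centralizer ({z} : Set G)) : G) * g⁻¹ := rfl
    _ = (zc z : Subgroup.centralizer ({z} : Set G)) := by
        conv_lhs => rw [← e2]
        refine Eq.trans ?_ e1
        group
    _ = z := rfl

theorem card_inter_le : Nat.card ↥(conjPart Q g ⊓ Q) ≤ 2 ^ 13 := by
  rw [← Nat.card_congr (Subgroup.subgroupOfEquivOfLe
    (inf_le_right : conjPart Q g ⊓ Q ≤ Q)).toEquiv]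
  exact card_abelian_le d fun a ha b hb => Subtype.ext (abelian_inter d hg hx ha hb)

omit hg hx in
theorem card_split : Nat.card ↥((conjPart Q g).map (proj e)) * Nat.card ↥(conjPart Q g ⊓ Q) =
    Nat.card ↥(conjPart Q g) := by
  have hk : (proj e).ker = Q := by ext t; rw [MonoidHom.mem_ker, proj_eq_one]
  rw [← Subgroup.relIndex_ker (f := proj e), hk, ← Subgroup.inf_relIndex_left, mul_comm]
  have h := ((conjPart Q g ⊓ Q).subgroupOf (conjPart Q g)).card_mul_index
  rwa [Nat.card_congr (Subgroup.subgroupOfEquivOfLe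
    (inf_le_left : conjPart Q g ⊓ Q ≤ conjPart Q g)).toEquiv] at h

omit hx in
theorem image_props {v : leechLattice} (hv : ψ v = QuotientGroup.mk x)
    (hx' : x ∉ Subgroup.center Q) :
    (conjPart Q g).map (proj e) ≤ (stabCls v).map rho ∧
    ∀ a ∈ (stabCls v).map rho, ∀ b ∈ (conjPart Q g).map (proj e),
      a * b * a⁻¹ ∈ (conjPart Q g).map (proj e) := by
  rw [← proj_centralizer d hv hx']
  refine ⟨Subgroup.map_mono (conjPart_le_centralizer d hg), ?_⟩
  rintro _ ⟨c, hc, rfl⟩ _ ⟨y, hy, rfl⟩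
  exact ⟨c * y * c⁻¹, conjPart_normalised d hg hc hy, by rw [map_mul, map_mul, map_inv]⟩

end

include d in
/-- short classes do not meet the class of `z` -/
theorem not_isConj_typ32 {x : Q} (hx : Typ ψ 32 x) :
    ¬ IsConj z ((x : Subgroup.centralizer ({z} : Set G)) : G) := by
  intro hconj
  obtain ⟨x0, hx0⟩ := QuotientGroup.mk_surjective (ψ Spor.leechU)
  have ht0 : Typ ψ 32 x0 :=
    ⟨Spor.leechU, show sqNorm Spor.vecU = 32 by decide +kernel, hx0.symm⟩
  obtain ⟨g, hg⟩ := isConj_iff.1 (isConj_of_typ d (Or.inl rfl) hx ht0 hconj)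
  have hc := typ_notMem_center d (Or.inl rfl) ht0
  obtain ⟨q₀, hq₀, hq₀c⟩ := exists_back d hg hc hx0.symm exists_23_leechU
  have hA := card_conjPart d hq₀ hq₀c
  obtain ⟨hle, hn⟩ := image_props d hg hx0.symm hc
  have hP : IsPGroup 2 ↥((conjPart Q g).map (proj e)) := (IsPGroup.of_card hA).map _
  have h1 := card_split d (g := g)
  rw [eq_bot_of_short _ hP hle hn, Subgroup.card_bot, hA, one_mul] at h1
  have h2 := card_inter_le d hg hc
  rw [h1] at h2
  norm_num at h2

include d in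
theorem typ64_iff (hex : ∃ g : G, ∃ y : Q,
      g * z * g⁻¹ = ((y : Subgroup.centralizer ({z} : Set G)) : G) ∧ g * z * g⁻¹ ≠ z) (x : Q) :
    (IsConj z ((x : Subgroup.centralizer ({z} : Set G)) : G) ∧
      ((x : Subgroup.centralizer ({z} : Set G)) : G) ≠ z) ↔ Typ ψ 64 x := by
  have hfwd : ∀ y : Q, IsConj z ((y : Subgroup.centralizer ({z} : Set G)) : G) →
      ((y : Subgroup.centralizer ({z} : Set G)) : G) ≠ z → Typ ψ 64 y := by
    intro y hy hne
    have hy2 : y ^ 2 = 1 := by
      obtain ⟨k, hk⟩ := isConj_iff.1 hy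
      refine Subtype.ext (Subtype.ext ?_)
      show ((y : Subgroup.centralizer ({z} : Set G)) : G) ^ 2 = 1
      rw [← hk, conj_pow, sq z, z_sq d]
      group
    rcases inv_cases d hy2 with h | h | h
    · rcases center_of_coe d h with e1 | e1
      · rw [e1] at hy
        exact absurd (isConj_one_left.1 hy) (z_ne_one d)
      · exact absurd e1 hne
    · exact absurd hy (not_isConj_typ32 d h)
    · exact h
  refine ⟨fun h => hfwd x h.1 h.2, fun hx => ?_⟩
  obtain ⟨g, y, hgy, hne⟩ := hex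
  have hy : IsConj z ((y : Subgroup.centralizer ({z} : Set G)) : G) := isConj_iff.2 ⟨g, hgy⟩
  refine ⟨isConj_of_typ d (Or.inr (Or.inr rfl)) (hfwd y hy (hgy ▸ hne)) hx hy, fun h => ?_⟩
  exact typ_notMem_center d (Or.inr (Or.inr rfl)) hx
    ((show x = ⟨zc z, zc_mem d⟩ from Subtype.ext (Subtype.ext h)) ▸ zq_center d)

/-- summary for a conjugate of `z` in `Q` -/
theorem summary {x : Q} (d : Data Q e ψ) (hx : Typ ψ 64 x) {g : G}
    (hg : g * z * g⁻¹ = ((x : Subgroup.centralizer ({z} : Set G)) : G)) :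
    ∃ a : Spor.Co1,
      (∀ y, y ∈ (Subgroup.centralizer ({(x : Subgroup.centralizer ({z} : Set G))} :
        Set (Subgroup.centralizer ({z} : Set G)))).map (proj e) ↔
          a * y * a⁻¹ ∈ (stabCls (Leech.oct none)).map rho) ∧
      (∀ y, y ∈ (conjPart Q g).map (proj e) ↔ a * y * a⁻¹ ∈ signImage) ∧
      Nat.card ↥(conjPart Q g ⊓ Q) = 2 ^ 13 := by
  have hxc := typ_notMem_center d (Or.inr (Or.inr rfl)) hx
  obtain ⟨w, hw, hwx⟩ := hx
  obtain ⟨g0, hg0⟩ := Leech.reach w hw
  obtain ⟨t, ht, hte⟩ := Leech.stdCross_congr hg0 (Leech.oct_mem_stdCross none)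
  have hcls := cls_smul g0⁻¹ (Leech.cls_eq.2 ⟨t, ht, hte⟩ : Leech.cls (g0 • w) = Leech.cls (Leech.oct none))
  rw [inv_smul_smul] at hcls
  have hv : ψ (g0⁻¹ • Leech.oct none) = QuotientGroup.mk x := ((psi_congr d).2 hcls.symm).trans hwx
  set v := g0⁻¹ • Leech.oct none with hvdef
  have hmem : ∀ y, y ∈ (stabCls v).map rho ↔
      rho g0 * y * (rho g0)⁻¹ ∈ (stabCls (Leech.oct none)).map rho := by
    intro y
    constructor
    · rintro ⟨k, hk, rfl⟩
      refine ⟨g0 * k * g0⁻¹, ?_, by rw [map_mul, map_mul, map_inv]⟩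
      have := mem_stabCls_smul.1 hk
      rwa [inv_inv] at this
    · rintro ⟨k, hk, he⟩
      refine ⟨g0⁻¹ * k * g0, mem_stabCls_smul.2 (by simpa [mul_assoc] using hk), ?_⟩
      rw [map_mul, map_mul, map_inv, he]
      group
  have h23 : ∃ y ∈ stabCls v, orderOf y = 23 := by
    refine ⟨g0⁻¹ * permHom shiftM * g0, mem_stabCls_smul.2 ?_, ?_⟩
    · simpa [mul_assoc] using perm_mem_frame shiftM
    · have h := orderOf_injective (MulAut.conj g0⁻¹).toMonoidHom (MulAut.conj g0⁻¹).injective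
        (permHom shiftM)
      simp only [MulEquiv.coe_toMonoidHom, MulAut.conj_apply, inv_inv] at h
      rw [h]
      have hinj : Function.Injective permHom := (injective_iff_map_eq_one _).2 fun σ h =>
        (rho_mono_eq_one (c := 1) (σ := σ) (by rw [map_one, one_mul, h, map_one])).2
      exact (orderOf_injective permHom hinj shiftM).trans orderOf_shiftM
  obtain ⟨q₀, hq₀, hq₀c⟩ := exists_back d hg hxc hv h23
  have hA := card_conjPart d hq₀ hq₀c
  obtain ⟨hle, hn⟩ := image_props d hg hv hxc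
  set P := (conjPart Q g).map (proj e) with hPdef
  have hP : IsPGroup 2 ↥P := (IsPGroup.of_card hA).map _
  set P' := P.map (MulAut.conj (rho g0)).toMonoidHom with hP'def
  have hle' : P' ≤ signImage := by
    refine le_signImage P' (hP.map _) ?_ ?_
    · rintro _ ⟨y, hy, rfl⟩
      exact (hmem y).1 (hle hy)
    · rintro u hu _ ⟨y, hy, rfl⟩
      refine ⟨(rho g0)⁻¹ * u * rho g0 * y * ((rho g0)⁻¹ * u * rho g0)⁻¹, hn _ ?_ y hy, ?_⟩
      · rw [hmem]; simpa [mul_assoc] using hu
      · simp only [MulEquiv.coe_toMonoidHom, MulAut.conj_apply]; group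
  have hP'card : Nat.card ↥P' = Nat.card ↥P := (Nat.card_congr
    (P.equivMapOfInjective _ (MulAut.conj (rho g0)).injective).toEquiv).symm
  have h1 : Nat.card ↥P ≤ 2 ^ 11 := by
    have := Leech.finite_co0
    rw [← hP'card, ← card_signImage]
    exact Subgroup.card_le_of_le hle'
  have h2 := card_inter_le d hg hxc
  have h3 := card_split d (g := g)
  rw [hA] at h3
  have hP11 : Nat.card ↥P = 2 ^ 11 := by nlinarith
  have hI : Nat.card ↥(conjPart Q g ⊓ Q) = 2 ^ 13 := by nlinarith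
  have heq : P' = signImage := by
    have := Leech.finite_co0
    exact Subgroup.eq_of_le_of_card_ge hle' (by rw [hP'card, hP11, card_signImage])
  refine ⟨rho g0, fun y => by rw [proj_centralizer d hv hxc]; exact hmem y, fun y => ?_, hI⟩
  rw [← heq]
  constructor
  · intro hy; exact ⟨y, hy, rfl⟩
  · rintro ⟨y', hy', he⟩
    rwa [← mul_left_cancel (mul_right_cancel (show rho g0 * y' * (rho g0)⁻¹ = _ from he))]

end Cfsg.Agent.MonsterType

namespace Cfsg.Agent.MonsterType
open Cfsg Cfsg.Agent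

theorem setup_of {G : Type*} [Group G] [Finite G] {z : G}
    {Q : Subgroup (Subgroup.centralizer ({z} : Set G))} [Q.Normal] (hM : IsOfMonsterType z Q) :
    ∃ g : G, ∃ y : Q,
      g * z * g⁻¹ = ((y : Subgroup.centralizer ({z} : Set G)) : G) ∧ g * z * g⁻¹ ≠ z := by
  obtain ⟨g, ⟨hq, hmem⟩, hne⟩ := hM.1.2.2.2.2
  exact ⟨g, ⟨_, hmem⟩, rfl, hne⟩

end Cfsg.Agent.MonsterType
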