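import Mathlib
import Cfsg.Agent.MonsterType.Intersection

/-! Vectors used for the centraliser of a non-central involution. -/

set_option autoImplicit false

namespace Cfsg.Agent.MonsterType
open Cfsg Cfsg.Agent

/-- first word -/
def wordA : GolayPt → ZMod 2 := Leech.bitWord 48147

/-- second word -/
def wordB : GolayPt → ZMod 2 := Leech.bitWord 21116

theorem wordA_mem : wordA ∈ golayCode := (Leech.mem_iff _).2 (by decide +kernel)

theorem wordB_mem : wordB ∈ golayCode := (Leech.mem_iff _).2 (by decide +kernel)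

/-- twice the first word -/
def vecA : leechLattice :=
  ⟨fun p => 2 * ((wordA p).val : ℤ), Leech.mem_of_parity _ 0 (by decide +kernel) (by decide +kernel)
    (by decide +kernel)⟩

/-- the short vector cut out by the two words -/
def vecE : leechLattice := Leech.fourPair (some 3) (some 11) 1 1 (by norm_num)

theorem vec_facts :
    sqNorm (vecE : GolayPt → ℤ) = 32 ∧
    Leech.negOn wordB (vecA : GolayPt → ℤ) = (vecA : GolayPt → ℤ) + -(vecE : GolayPt → ℤ) ∧
    (16 : ℤ) ∣ dotInt (vecA : GolayPt → ℤ) Spor.vecU ∧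
    (16 : ℤ) ∣ dotInt (vecA : GolayPt → ℤ) ((Leech.oct none : leechLattice) : GolayPt → ℤ) ∧
    Leech.negOn wordB Spor.vecU = Spor.vecU ∧
    (vecE : GolayPt → ℤ) none = 0 ∧ Spor.vecU none = 4 ∧
    sqNorm Spor.vecU = 32 := by decide +kernel

/-- the sign change of the second word -/
def signB : ↥Co0 := signHom (Multiplicative.ofAdd ⟨wordB, wordB_mem⟩)

theorem signB_vecA : signB • vecA = vecA + -vecE := Subtype.ext (by
  show ((Leech.signCo0 wordB wordB_mem • vecA : leechLattice) : GolayPt → ℤ) = _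
  rw [Leech.signCo0_apply, vec_facts.2.1]
  rfl)

theorem signB_leechU : signB • Spor.leechU = Spor.leechU := Subtype.ext (by
  show ((Leech.signCo0 wordB wordB_mem • Spor.leechU : leechLattice) : GolayPt → ℤ) = _
  rw [Leech.signCo0_apply]
  exact vec_facts.2.2.2.2.1)

theorem cls_neg (v : leechLattice) : Leech.cls (-v) = Leech.cls v :=
  Leech.cls_eq_iff.2 ⟨-v, by abel⟩

theorem cls_vecE_ne : Leech.cls vecE ≠ Leech.cls Spor.leechU ∧ Leech.cls vecE ≠ Leech.cls 0 := by
  obtain ⟨hE, -, -, -, -, hE0, hU0, hU⟩ := vec_facts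
  have hU' : sqNorm (Spor.leechU : GolayPt → ℤ) = 32 := hU
  constructor
  · intro h
    obtain ⟨z, hz, e⟩ := Leech.cls_eq.1 h
    rcases Leech.congr_two vecE.2 Spor.leechU.2 (by omega) (by omega) hz e with h | h | ⟨h, -, -⟩
    · have := congrFun h none
      rw [hE0, show (Spor.leechU : GolayPt → ℤ) none = 4 from hU0] at this
      omega
    · have := congrFun h none
      rw [Pi.neg_apply, hE0, show (Spor.leechU : GolayPt → ℤ) none = 4 from hU0] at this
      omega
    · omega
  · intro h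
    have h0 : (0 : leechLattice) ∈ Leech.layer 0 := Leech.sqNorm_eq_zero.2 rfl
    exact Set.disjoint_left.1 (Leech.image_disjoint (M := 32) (N := 0) (by norm_num) (by norm_num)
      (by norm_num)) ⟨vecE, hE, rfl⟩ ⟨0, h0, h.symm⟩

variable {G : Type*} [Group G] [Finite G] {z : G}
  {Q : Subgroup (Subgroup.centralizer ({z} : Set G))} [Q.Normal]
  {e : (Subgroup.centralizer ({z} : Set G)) ⧸ Q ≃* Spor.Co1}
  {ψ : leechLattice → Q ⧸ Subgroup.center Q}

/-- a short class meets a conjugate of the extraspecial subgroup -/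
theorem exists_typ32_meet (d : Data Q e ψ) (hex : ∃ g : G, ∃ y : Q,
      g * z * g⁻¹ = ((y : Subgroup.centralizer ({z} : Set G)) : G) ∧ g * z * g⁻¹ ≠ z) :
    ∃ (g : G) (r r' : Q), Typ ψ 32 r ∧ g * z * g⁻¹ ≠ z ∧
      (∃ y : Q, ((y : Subgroup.centralizer ({z} : Set G)) : G) = g * z * g⁻¹) ∧
      g * ((r' : Subgroup.centralizer ({z} : Set G)) : G) * g⁻¹ =
        ((r : Subgroup.centralizer ({z} : Set G)) : G) := by
  obtain ⟨x, hx⟩ := QuotientGroup.mk_surjective (ψ (Leech.oct none))
  have hx64 : Typ ψ 64 x :=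
    ⟨Leech.oct none, (Leech.stdCross_mem (Leech.oct_mem_stdCross none)).2, hx.symm⟩
  have hxc := typ_notMem_center d (Or.inr (Or.inr rfl)) hx64
  obtain ⟨hconj, hne⟩ := (typ64_iff d hex x).2 hx64
  obtain ⟨g, hg⟩ := isConj_iff.1 hconj
  obtain ⟨_, _, _, hI⟩ := summary d hx64 hg
  obtain ⟨hle, hn⟩ := image_props d hg hx.symm hxc
  obtain ⟨q₀, hq₀, hq₀c⟩ := exists_back d hg hxc hx.symm
    ⟨permHom shiftM, perm_mem_frame shiftM, by
      have hinj : Function.Injective permHom := (injective_iff_map_eq_one _).2 fun σ h =>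
        (rho_mono_eq_one (c := 1) (σ := σ) (by rw [map_one, one_mul, h, map_one])).2
      exact (orderOf_injective permHom hinj shiftM).trans orderOf_shiftM⟩
  have hA := card_conjPart d hq₀ hq₀c
  have hP : IsPGroup 2 ↥((conjPart Q g).map (proj e)) := (IsPGroup.of_card hA).map _
  have hsub := le_signImage _ hP hle hn
  have h3 := card_split d (g := g)
  rw [hA, hI] at h3
  have hfin := Leech.finite_co0
  have heq : (conjPart Q g).map (proj e) = signImage :=
    Subgroup.eq_of_le_of_card_ge hsub (by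
      rw [card_signImage]
      refine le_of_eq (Nat.eq_of_mul_eq_mul_right (m := 2 ^ 13) (by norm_num) ?_).symm
      rw [h3]; norm_num)
  have hbmem : rho signB ∈ (conjPart Q g).map (proj e) := heq ▸ ⟨_, rfl⟩
  obtain ⟨p, hp, hpe⟩ := hbmem
  obtain ⟨q, hq⟩ := QuotientGroup.mk_surjective (ψ vecA)
  have hx2 : x ^ 2 = 1 := (sq_iff d hx.symm).2 (by
    rw [(Leech.stdCross_mem (Leech.oct_mem_stdCross none)).2]; decide)
  have hqx : q * x = x * q := (commute_iff d hq.symm hx.symm hx2).2 vec_facts.2.2.2.1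
  have hqD : (q : Subgroup.centralizer ({z} : Set G))⁻¹ ∈ Subgroup.centralizer
      ({(x : Subgroup.centralizer ({z} : Set G))} : Set (Subgroup.centralizer ({z} : Set G))) :=
    Subgroup.inv_mem _ (Subgroup.mem_centralizer_singleton_iff.2 (congrArg Subtype.val hqx))
  set q' : Q := ⟨p * q * p⁻¹, (inferInstance : Q.Normal).conj_mem _ q.2 p⟩ with hq'
  have hmem : ((q⁻¹ * q' : Q) : Subgroup.centralizer ({z} : Set G)) ∈ conjPart Q g := by
    have h1 := conjPart_normalised d hg hqD hp
    have h2 := Subgroup.mul_mem _ h1 (Subgroup.inv_mem _ hp)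
    simp only [inv_inv] at h2
    simpa [hq', mul_assoc] using h2
  obtain ⟨r', hr'⟩ := mem_conjPart.1 hmem
  refine ⟨g, q⁻¹ * q', r', ⟨vecE, vec_facts.1, ?_⟩, hg ▸ hne, ⟨x, hg.symm⟩, hr'⟩
  have hc := d.hψ.2.2.2 p signB hpe.symm vecA q hq.symm
  rw [signB_vecA, d.hψ.1] at hc
  rw [← hq] at hc
  rw [QuotientGroup.mk_mul, QuotientGroup.mk_inv, ← hc, ← mul_assoc, inv_mul_cancel, one_mul]
  exact (psi_congr d).2 (cls_neg vecE).symm

end Cfsg.Agent.MonsterType
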