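import Mathlib
import Cfsg.Agent.MonsterType.PerpModule
import Cfsg.Agent.LargeExtra.Quotient
import Cfsg.Agent.Layer.FStar

/-! The centraliser of a non-central involution modulo that involution. -/

set_option autoImplicit false

namespace Cfsg.Agent.MonsterType
open Cfsg Cfsg.Agent
open scoped commutatorElement

/-- the stabiliser of the short vector, as the second Conway group -/
def co2Equiv : ↥Leech.stabU ≃* ↥Spor.Co2 where
  toFun g := ⟨((g : ↥Co0) : Equiv.Perm leechLattice), (g : ↥Co0).2, g.2⟩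
  invFun g := ⟨⟨(g : Equiv.Perm leechLattice), g.2.1⟩, g.2.2⟩
  left_inv _ := rfl
  right_inv _ := rfl
  map_mul' _ _ := rfl

/-- the stabiliser of the short vector in the quotient -/
def shortHom : ↥Leech.stabU →* Spor.Co1 := rho.comp Leech.stabU.subtype

theorem shortHom_injective : Function.Injective shortHom := by
  refine (injective_iff_map_eq_one _).2 fun g hg => ?_
  rcases rho_eq_one.1 hg with h | h
  · exact Subtype.ext h
  · exfalso
    have hfix : (g : ↥Co0) • Spor.leechU = Spor.leechU := g.2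
    rw [show (g : ↥Co0) = Leech.zneg from h, Leech.zneg_smul] at hfix
    exact absurd (congrArg (fun v : leechLattice => (v : GolayPt → ℤ) none) hfix) (by decide +kernel)

theorem range_shortHom : shortHom.range = (stabCls Spor.leechU).map rho := by
  refine le_antisymm ?_ ?_
  · rintro _ ⟨g, rfl⟩
    exact ⟨g, mem_stabCls.2 (congrArg Leech.cls g.2), rfl⟩
  · rintro _ ⟨g, hg, rfl⟩
    rcases stabCls_leechU hg with h | h
    · exact ⟨⟨g, h⟩, rfl⟩
    · refine ⟨⟨_, h⟩, ?_⟩
      show rho (g * Leech.zneg) = rho g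
      rw [map_mul, rho_eq_one.2 (Or.inr rfl), mul_one]

variable {G : Type*} [Group G] [Finite G] {z : G}
  {Q : Subgroup (Subgroup.centralizer ({z} : Set G))} [Q.Normal]
  {e : (Subgroup.centralizer ({z} : Set G)) ⧸ Q ≃* Spor.Co1}
  {ψ : leechLattice → Q ⧸ Subgroup.center Q}

set_option maxHeartbeats 800000 in
theorem babyType (d : Data Q e ψ) (hex : ∃ g : G, ∃ y : Q,
      g * z * g⁻¹ = ((y : Subgroup.centralizer ({z} : Set G)) : G) ∧ g * z * g⁻¹ ≠ z)
    (t : Q) (hu : ψ Spor.leechU = QuotientGroup.mk t) (τ : G)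
    (hτ : τ = ((t : Subgroup.centralizer ({z} : Set G)) : G))
    [hn : ((Subgroup.zpowers τ).subgroupOf (Subgroup.centralizer ({τ} : Set G))).Normal] :
    IsOfBabyMonsterType
      (↥(Subgroup.centralizer ({τ} : Set G)) ⧸
        (Subgroup.zpowers τ).subgroupOf (Subgroup.centralizer ({τ} : Set G))) := by
  subst hτ
  set τ : G := ((t : Subgroup.centralizer ({z} : Set G)) : G) with hτ
  set C1 := Subgroup.centralizer ({τ} : Set G) with hC1
  set N := (Subgroup.zpowers τ).subgroupOf C1 with hN
  have hU32 : sqNorm (Spor.leechU : GolayPt → ℤ) = 32 := show sqNorm Spor.vecU = 32 by decide +kernel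
  have ht32 : Typ ψ 32 t := ⟨Spor.leechU, hU32, hu⟩
  have htc : t ∉ Subgroup.center Q := typ_notMem_center d (Or.inl rfl) ht32
  have ht2 : t ^ 2 = 1 := (sq_iff d hu).2 (by rw [hU32]; decide)
  set ζ : Q := ⟨zc z, zc_mem d⟩ with hζ
  have hζc : ζ ∈ Subgroup.center Q := zq_center d
  have hζ1 : ζ ≠ 1 := zq_ne_one d
  have htζ : Typ ψ 32 (t * ζ) := ⟨Spor.leechU, hU32, by
    rw [QuotientGroup.mk_mul, (QuotientGroup.eq_one_iff ζ).2 hζc, mul_one, hu]⟩
  have hτ2 : τ ^ 2 = 1 := congrArg (fun a : Q => ((a : Subgroup.centralizer ({z} : Set G)) : G)) ht2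
  have hτ1 : τ ≠ 1 := fun h => htc (by
    rw [show t = 1 from Subtype.ext (Subtype.ext h)]; exact Subgroup.one_mem _)
  have hzpow : ∀ g : G, g ∈ Subgroup.zpowers τ → g = 1 ∨ g = τ := by
    intro g hg
    obtain ⟨n, rfl⟩ := Subgroup.mem_zpowers_iff.1 hg
    have h2 : τ ^ (2 : ℤ) = 1 := by rw [zpow_two, ← sq, hτ2]
    rcases Int.even_or_odd' n with ⟨k, rfl | rfl⟩
    · left; rw [zpow_mul, h2, one_zpow]
    · right; rw [zpow_add_one, zpow_mul, h2, one_zpow, one_mul]
  have hnorm : ∀ {a : C1}, a ∈ N → (a : G) = 1 ∨ (a : G) = τ := fun {a} ha =>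
    hzpow _ (Subgroup.mem_subgroupOf.1 ha)
  set tC : Subgroup.centralizer ({z} : Set G) := (t : Subgroup.centralizer ({z} : Set G)) with htC
  set CC := Subgroup.centralizer ({tC} : Set (Subgroup.centralizer ({z} : Set G))) with hCC
  have hzτ : Commute z τ := congrArg Subtype.val (commute_zc tC).eq
  have hzC1 : z ∈ C1 := Subgroup.mem_centralizer_singleton_iff.2 hzτ.eq
  set zb : C1 ⧸ N := QuotientGroup.mk ⟨z, hzC1⟩ with hzb
  set Cb := Subgroup.centralizer ({zb} : Set (C1 ⧸ N)) with hCb
  have hCC1 : ∀ c : CC, ((c : Subgroup.centralizer ({z} : Set G)) : G) ∈ C1 := fun c =>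
    Subgroup.mem_centralizer_singleton_iff.2
      (congrArg Subtype.val (Subgroup.mem_centralizer_singleton_iff.1 c.2))
  let toC1 : CC →* C1 :=
    { toFun := fun c => ⟨_, hCC1 c⟩, map_one' := rfl, map_mul' := fun _ _ => rfl }
  have hμmem : ∀ c : CC, (QuotientGroup.mk (toC1 c) : C1 ⧸ N) ∈ Cb := fun c => by
    refine Subgroup.mem_centralizer_singleton_iff.2 ?_
    rw [hzb, ← QuotientGroup.mk_mul, ← QuotientGroup.mk_mul]
    congr 1
    refine Subtype.ext ?_
    exact congrArg (fun a : Subgroup.centralizer ({z} : Set G) => (a : G))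
      (commute_zc (c : Subgroup.centralizer ({z} : Set G))).eq.symm
  let μ : CC →* Cb := ((QuotientGroup.mk' N).comp toC1).codRestrict Cb hμmem
  have hμker : ∀ {a : CC}, μ a = 1 →
      ((a : Subgroup.centralizer ({z} : Set G)) : G) = 1 ∨
        ((a : Subgroup.centralizer ({z} : Set G)) : G) = τ := by
    intro a ha
    exact hnorm (a := toC1 a) ((QuotientGroup.eq_one_iff _).1 (congrArg Subtype.val ha))
  -- the quotient involution centraliser comes from the centraliser of `z`
  have hμsurj : Function.Surjective μ := by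
    rintro ⟨y, hy⟩
    obtain ⟨a, rfl⟩ := QuotientGroup.mk_surjective y
    have h1 := Subgroup.mem_centralizer_singleton_iff.1 hy
    rw [hzb, ← QuotientGroup.mk_mul, ← QuotientGroup.mk_mul, QuotientGroup.eq] at h1
    have haτ : Commute (a : G) τ := Subgroup.mem_centralizer_singleton_iff.1 a.2
    have haz : (a : G) * z = z * (a : G) := by
      rcases hnorm h1 with h | h
      · simp only [Subgroup.coe_mul, Subgroup.coe_inv] at h
        exact inv_mul_eq_one.1 h
      · exfalso
        simp only [Subgroup.coe_mul, Subgroup.coe_inv] at h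
        have h' : z * (a : G) = (a : G) * z * τ := by rw [← h, mul_inv_cancel_left]
        apply not_isConj_typ32 d htζ
        have hval : (((t * ζ : Q) : Subgroup.centralizer ({z} : Set G)) : G) = τ * z := rfl
        rw [hval]
        refine isConj_iff.2 ⟨(a : G)⁻¹, ?_⟩
        calc (a : G)⁻¹ * z * ((a : G)⁻¹)⁻¹ = (a : G)⁻¹ * (z * (a : G)) := by group
          _ = z * τ := by rw [h']; group
          _ = τ * z := hzτ.eq
    exact ⟨⟨⟨a, Subgroup.mem_centralizer_singleton_iff.2 haz⟩,
      Subgroup.mem_centralizer_singleton_iff.2 (Subtype.ext haτ.eq)⟩, rfl⟩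
  set CQ := Q.subgroupOf CC with hCQ
  set R := CQ.map μ with hR
  have hRn : R.Normal := (inferInstance : CQ.Normal).map μ hμsurj
  have hζCC : (ζ : Subgroup.centralizer ({z} : Set G)) ∈ CC :=
    Subgroup.mem_centralizer_singleton_iff.2 (commute_zc tC).eq
  have htCC : tC ∈ CC := Subgroup.mem_centralizer_singleton_iff.2 rfl
  set ζ' : CC := ⟨ζ, hζCC⟩ with hζ'
  set zbC : Cb := μ ζ' with hzbC
  have hzbval : (zbC : C1 ⧸ N) = zb := rfl
  have hzne : zbC ≠ 1 := fun h => by
    rcases hμker h with h | h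
    · exact z_ne_one d h
    · exact htc (by
        rw [show t = ζ from Subtype.ext (Subtype.ext h.symm)]; exact hζc)
  have hzR : zbC ∈ R := ⟨ζ', ζ.2, rfl⟩
  set wR : R := ⟨zbC, hzR⟩ with hwR
  have hz0 := z_sq d
  have hwne : wR ≠ 1 := fun h => hzne (congrArg Subtype.val h)
  -- basic identities in the quotient
  have hcom1 : ∀ a ∈ CQ, ∀ b ∈ CQ, μ a * μ b = μ b * μ a ∨ μ a * μ b = zbC * (μ b * μ a) := by
    intro a ha b hb
    rcases center_cases d (comm_mem_center d (⟨a, ha⟩ : Q) ⟨b, hb⟩) with h | h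
    · left
      rw [mul_inv_eq_one, mul_inv_eq_iff_eq_mul] at h
      rw [← map_mul, ← map_mul]
      exact congrArg μ (Subtype.ext (congrArg (fun q : Q => (q : Subgroup.centralizer ({z} : Set G))) h))
    · right
      rw [mul_inv_eq_iff_eq_mul, mul_inv_eq_iff_eq_mul, mul_assoc] at h
      rw [← map_mul, ← map_mul, hzbC, ← map_mul]
      exact congrArg μ (Subtype.ext (congrArg (fun q : Q => (q : Subgroup.centralizer ({z} : Set G))) h))
  have hsq1 : ∀ a ∈ CQ, μ a * μ a = 1 ∨ μ a * μ a = zbC := by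
    intro a ha
    obtain ⟨v, hv⟩ := d.hψ.2.1 (QuotientGroup.mk (⟨a, ha⟩ : Q))
    have hc : (⟨a, ha⟩ : Q) * ⟨a, ha⟩ ∈ Subgroup.center Q := by
      rw [← QuotientGroup.eq_one_iff, QuotientGroup.mk_mul, ← hv, ← d.hψ.1, d.hψ.2.2.1]
      exact ⟨v, rfl⟩
    rw [← map_mul]
    rcases center_cases d hc with h | h
    · left
      rw [show a * a = 1 from Subtype.ext (congrArg (fun q : Q => (q : Subgroup.centralizer ({z} : Set G))) h),
        map_one]
    · right
      rw [hzbC]
      exact congrArg μ (Subtype.ext (congrArg (fun q : Q => (q : Subgroup.centralizer ({z} : Set G))) h))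
  -- orders
  set A : Subgroup Q := Subgroup.centralizer ({t} : Set Q) with hA
  have hAcard : Nat.card A = 2 ^ 24 := card_centralizer d htc
  have hmemA : ∀ q : Q, (q : Subgroup.centralizer ({z} : Set G)) ∈ CC ↔ q ∈ A := fun q => by
    rw [hA, Subgroup.mem_centralizer_singleton_iff, Subgroup.mem_centralizer_singleton_iff]
    exact ⟨fun h => Subtype.ext h, fun h => congrArg Subtype.val h⟩
  have hCQcard : Nat.card CQ = 2 ^ 24 := by
    rw [← hAcard]
    exact Nat.card_congr
      ⟨fun a => ⟨⟨_, a.2⟩, (hmemA ⟨_, a.2⟩).1 a.1.2⟩, fun q => ⟨⟨_, (hmemA q.1).2 q.2⟩, q.1.2⟩,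
        fun _ => rfl, fun _ => rfl⟩
  set t' : CC := ⟨tC, htCC⟩ with ht'
  have hμt : μ t' = 1 := by
    refine Subtype.ext ((QuotientGroup.eq_one_iff _).2 ?_)
    exact Subgroup.mem_subgroupOf.2 (Subgroup.mem_zpowers τ)
  have hkerle : μ.ker ≤ CQ := by
    intro a ha
    rcases hμker ha with h | h
    · rw [show a = 1 from Subtype.ext (Subtype.ext h)]; exact Subgroup.one_mem _
    · rw [show a = t' from Subtype.ext (Subtype.ext h)]; exact t.2
  have hkercard : Nat.card μ.ker = 2 := by
    have hset : (μ.ker : Set CC) = {1, t'} := by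
      ext a
      simp only [SetLike.mem_coe, MonoidHom.mem_ker, Set.mem_insert_iff, Set.mem_singleton_iff]
      constructor
      · intro ha
        rcases hμker ha with h | h
        · exact Or.inl (Subtype.ext (Subtype.ext h))
        · exact Or.inr (Subtype.ext (Subtype.ext h))
      · rintro (rfl | rfl)
        exacts [map_one μ, hμt]
    refine (Nat.card_coe_set_eq _).trans ?_
    rw [hset, Set.ncard_pair]
    exact fun h => hτ1 (congrArg (fun a : CC => ((a : Subgroup.centralizer ({z} : Set G)) : G)) h).symm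
  have hRcard : Nat.card R = 2 ^ (2 * 11 + 1) := by
    have h1 := (μ.ker.subgroupOf CQ).card_mul_index
    rw [Nat.card_congr (Subgroup.subgroupOfEquivOfLe hkerle).toEquiv, hkercard, hCQcard,
      show (μ.ker.subgroupOf CQ).index = Nat.card R from Subgroup.relIndex_ker (f := μ) CQ] at h1
    refine Nat.eq_of_mul_eq_mul_left (n := 2) (by norm_num) ?_
    rw [h1]; norm_num
  have hR2 : IsPGroup 2 R := IsPGroup.of_card hRcard
  have hcenR : ∀ c ∈ Subgroup.center R, c = 1 ∨ c = wR := by
    rintro ⟨_, a, ha, rfl⟩ hc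
    have hcomm : ∀ q ∈ A, q * (⟨a, ha⟩ : Q) = ⟨a, ha⟩ * q := by
      intro q hq
      set b : CC := ⟨q, (hmemA q).2 hq⟩ with hb
      have h := congrArg Subtype.val (Subgroup.mem_center_iff.1 hc ⟨μ b, b, q.2, rfl⟩)
      change μ b * μ a = μ a * μ b at h
      by_contra hne
      have h1 := comm_eq_z d (a := q) (b := ⟨a, ha⟩) fun e1 => hne (by
        rw [mul_inv_eq_one, mul_inv_eq_iff_eq_mul] at e1; exact e1)
      refine hzne ?_
      have h2 : zbC = μ b * μ a * (μ b)⁻¹ * (μ a)⁻¹ := by
        rw [← map_inv, ← map_inv, ← map_mul, ← map_mul, ← map_mul, hzbC]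
        exact congrArg μ (Subtype.ext (congrArg (fun q : Q => (q : Subgroup.centralizer ({z} : Set G))) h1.symm))
      rw [h2, h]; group
    have hCA : Nat.card ↥(Subgroup.centralizer (A : Set Q)) ≤ 4 := by
      have h := card_mul_centralizer d A
      rw [hAcard, d.card] at h
      refine Nat.le_of_mul_le_mul_left (h.trans (le_of_eq ?_)) (by norm_num : 0 < 2 ^ 24)
      norm_num
    have hζA : ζ ∈ A := Subgroup.mem_centralizer_singleton_iff.2
      (Subgroup.mem_center_iff.1 hζc t).symm
    have htζne : t ≠ ζ := fun h => htc (h ▸ hζc)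
    have hsub : ({1, ζ, t, t * ζ} : Set Q) ⊆ (Subgroup.centralizer (A : Set Q) : Set Q) := by
      have h1 : ζ ∈ Subgroup.centralizer (A : Set Q) :=
        Subgroup.mem_centralizer_iff.2 fun q _ => Subgroup.mem_center_iff.1 hζc q
      have h2 : t ∈ Subgroup.centralizer (A : Set Q) :=
        Subgroup.mem_centralizer_iff.2 fun q hq => Subgroup.mem_centralizer_singleton_iff.1 hq
      rintro q (rfl | rfl | rfl | rfl)
      exacts [Subgroup.one_mem _, h1, h2, Subgroup.mul_mem _ h2 h1]
    have h4 : ({1, ζ, t, t * ζ} : Set Q).ncard = 4 := by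
      have n1 : t ≠ 1 := fun h => htc (h ▸ Subgroup.one_mem _)
      have n2 : t * ζ ≠ 1 := fun h => htc (by
        rw [eq_inv_of_mul_eq_one_left h]; exact Subgroup.inv_mem _ hζc)
      rw [Set.ncard_insert_of_notMem (by simp [hζ1.symm, n1.symm, n2.symm]),
        Set.ncard_insert_of_notMem (by simp [htζne.symm, n1]), Set.ncard_pair (by simp [hζ1])]
    have hfinQ : Finite Q := inferInstance
    have heq := Set.eq_of_subset_of_ncard_le hsub
      (by rw [h4, ← Nat.card_coe_set_eq]; exact hCA) (Set.toFinite _)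
    have hmem : (⟨a, ha⟩ : Q) ∈ (Subgroup.centralizer (A : Set Q) : Set Q) :=
      Subgroup.mem_centralizer_iff.2 hcomm
    rw [← heq] at hmem
    have hμζt : μ (t' * ζ') = zbC := by rw [map_mul, hμt, one_mul]
    rcases hmem with h | h | h | h <;>
      have h' := congrArg (fun q : Q => (q : Subgroup.centralizer ({z} : Set G))) h
    · left; exact Subtype.ext (show μ a = 1 by rw [show a = 1 from Subtype.ext h', map_one])
    · right; exact Subtype.ext (show μ a = zbC by rw [show a = ζ' from Subtype.ext h'])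
    · left; exact Subtype.ext (show μ a = 1 by rw [show a = t' from Subtype.ext h', hμt])
    · right; exact Subtype.ext (show μ a = zbC by rw [show a = t' * ζ' from Subtype.ext h', hμζt])
  have hwc : wR ∈ Subgroup.center R := Subgroup.mem_center_iff.2 fun r => Subtype.ext (by
    refine Subtype.ext ?_
    exact Subgroup.mem_centralizer_singleton_iff.1 (r : Cb).2)
  have hww : wR * wR = 1 := Subtype.ext (by
    show μ ζ' * μ ζ' = 1
    rw [← map_mul, show ζ' * ζ' = 1 from Subtype.ext (Subtype.ext hz0), map_one])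
  have hExt : IsExtraspecial 2 R := by
    refine LargeExtra.extraspecial_of hR2 hwne hww hwc hcenR ?_ ?_ ?_
    · rintro ⟨_, a, ha, rfl⟩ ⟨_, b, hb, rfl⟩
      rcases hcom1 a ha b hb with h | h
      · exact Or.inl (commutatorElement_eq_one_iff_mul_comm.2 (Subtype.ext h))
      · refine Or.inr (Subtype.ext ?_)
        show μ a * μ b * (μ a)⁻¹ * (μ b)⁻¹ = zbC
        rw [h]; group
    · rintro ⟨_, a, ha, rfl⟩
      rcases hsq1 a ha with h | h
      · exact Or.inl (Subtype.ext h)
      · exact Or.inr (Subtype.ext h)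
    · by_contra! hall
      have hle : (⊤ : Subgroup R) ≤ Subgroup.center R := fun r _ =>
        Subgroup.mem_center_iff.2 fun s => hall s r
      have h2 : Nat.card (Subgroup.center R) ≤ 2 := by
        refine (Nat.card_coe_set_eq _).trans_le ((Set.ncard_le_ncard
          (t := ({1, wR} : Set R)) ?_ (Set.toFinite _)).trans (le_of_eq (Set.ncard_pair hwne.symm)))
        intro c hc
        rcases hcenR c hc with h | h <;> simp [h]
      have h3 := Subgroup.card_le_of_le hle
      rw [Subgroup.card_top, hRcard] at h3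
      omega
  -- the map onto the second Conway group
  let κ0 : CC →* shortHom.range := ((proj e).comp CC.subtype).codRestrict _ fun c => by
    rw [range_shortHom, ← proj_centralizer d hu htc]
    exact ⟨_, c.2, rfl⟩
  let κ : CC →* ↥Spor.Co2 := co2Equiv.toMonoidHom.comp
    ((MonoidHom.ofInjective shortHom_injective).symm.toMonoidHom.comp κ0)
  have hκ : ∀ (c : CC) (g : ↥Spor.Co2), κ c = g ↔
      proj e c = rho (co2Equiv.symm g : ↥Co0) := by
    intro c g
    show co2Equiv ((MonoidHom.ofInjective shortHom_injective).symm (κ0 c)) = g ↔ _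
    rw [← MulEquiv.eq_symm_apply, MulEquiv.symm_apply_eq, Subtype.ext_iff]
    rfl
  have hκsurj : Function.Surjective κ := by
    intro g
    have hmem : rho (co2Equiv.symm g : ↥Co0) ∈ (stabCls Spor.leechU).map rho := by
      rw [← range_shortHom]; exact ⟨co2Equiv.symm g, rfl⟩
    rw [← proj_centralizer d hu htc] at hmem
    obtain ⟨c, hc, hce⟩ := hmem
    exact ⟨⟨c, hc⟩, (hκ ⟨c, hc⟩ g).2 hce⟩
  have hκker : κ.ker = CQ := by
    ext c
    rw [MonoidHom.mem_ker, hκ, map_one, Subgroup.coe_one, map_one, proj_eq_one]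
    rfl
  let Θ : Cb →* ↥Spor.Co2 := μ.liftOfRightInverse (Function.surjInv hμsurj)
    (Function.rightInverse_surjInv hμsurj) ⟨κ, hkerle.trans hκker.ge⟩
  have hΘ : ∀ c, Θ (μ c) = κ c := fun c => μ.liftOfRightInverse_comp_apply _ _ _ c
  have hΘsurj : Function.Surjective Θ := fun g => by
    obtain ⟨c, hc⟩ := hκsurj g
    exact ⟨μ c, (hΘ c).trans hc⟩
  have hΘker : Θ.ker = R := by
    ext y
    obtain ⟨c, rfl⟩ := hμsurj y
    rw [MonoidHom.mem_ker, hΘ, ← MonoidHom.mem_ker, hκker]
    constructor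
    · intro h; exact ⟨c, h, rfl⟩
    · rintro ⟨a, ha, hac⟩
      have h1 : a⁻¹ * c ∈ CQ := hkerle (MonoidHom.mem_ker.2 (by rw [map_mul, map_inv, hac]; group))
      simpa using Subgroup.mul_mem _ ha h1
  let eb : Cb ⧸ R ≃* ↥Spor.Co2 :=
    (QuotientGroup.quotientMulEquivOfEq hΘker.symm).trans
      (QuotientGroup.quotientKerEquivOfSurjective Θ hΘsurj)
  have heb : ∀ y : Cb, eb (QuotientGroup.mk y) = Θ y := fun y => rfl
  -- the module map
  have hperp : ∀ {q : Q} {v : leechLattice}, ψ v = QuotientGroup.mk q →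
      (q ∈ A ↔ (16 : ℤ) ∣ dotInt (v : GolayPt → ℤ) Spor.vecU) := fun {q v} hv => by
    rw [hA, Subgroup.mem_centralizer_singleton_iff]
    exact commute_iff d hv hu ht2
  let lift : ∀ q : Q, q ∈ A → R := fun q hq => ⟨μ ⟨q, (hmemA q).2 hq⟩, _, q.2, rfl⟩
  have hex' : ∀ x : leechPerpU, ∃ q : Q, q ∈ A ∧ ψ (x : leechLattice) = QuotientGroup.mk q := fun x => by
    obtain ⟨q, hq⟩ := QuotientGroup.mk_surjective (ψ (x : leechLattice))
    exact ⟨q, (hperp hq.symm).2 x.2, hq.symm⟩
  choose pick hpickA hpick using hex'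
  let ψb : leechPerpU → R ⧸ Subgroup.center R := fun x => QuotientGroup.mk (lift (pick x) (hpickA x))
  have hspec : ∀ (x : leechPerpU) (q : Q) (hq : q ∈ A), ψ (x : leechLattice) = QuotientGroup.mk q →
      ψb x = QuotientGroup.mk (lift q hq) := by
    intro x q hq hxq
    rcases center_cases d (x := (pick x)⁻¹ * q) (QuotientGroup.eq.1 ((hpick x).symm.trans hxq)) with h | h
    · have : pick x = q := inv_mul_eq_one.1 h
      subst this
      rfl
    · refine QuotientGroup.eq.2 ?_
      have : (lift (pick x) (hpickA x))⁻¹ * lift q hq = wR := Subtype.ext (by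
        show (μ _)⁻¹ * μ _ = μ ζ'
        rw [← map_inv, ← map_mul]
        exact congrArg μ (Subtype.ext (congrArg (fun a : Q => (a : Subgroup.centralizer ({z} : Set G))) h)))
      rw [this]; exact hwc
  have hsurjR : ∀ r : R, ∃ (x : leechPerpU) (q : Q) (hq : q ∈ A),
      ψ (x : leechLattice) = QuotientGroup.mk q ∧ r = lift q hq := by
    rintro ⟨_, a, ha, rfl⟩
    obtain ⟨v, hv⟩ := d.hψ.2.1 (QuotientGroup.mk (⟨a, ha⟩ : Q))
    have hq : (⟨a, ha⟩ : Q) ∈ A := (hmemA _).1 a.2
    exact ⟨⟨v, (hperp hv).1 hq⟩, ⟨a, ha⟩, hq, hv, rfl⟩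
  have hlift_conj : ∀ (c : CC) (q : Q) (hq : q ∈ A), ∃ hq' : (⟨(c : Subgroup.centralizer ({z} : Set G)) * q *
      (c : Subgroup.centralizer ({z} : Set G))⁻¹, (inferInstance : Q.Normal).conj_mem _ q.2 _⟩ : Q) ∈ A,
      ((lift _ hq' : R) : Cb) = μ c * (lift q hq : R) * (μ c)⁻¹ := by
    intro c q hq
    have hm : (c : Subgroup.centralizer ({z} : Set G)) * q * (c : Subgroup.centralizer ({z} : Set G))⁻¹ ∈ CC :=
      Subgroup.mul_mem _ (Subgroup.mul_mem _ c.2 ((hmemA q).2 hq)) (Subgroup.inv_mem _ c.2)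
    refine ⟨(hmemA _).1 hm, ?_⟩
    show μ _ = μ c * μ _ * (μ c)⁻¹
    rw [← map_inv, ← map_mul, ← map_mul]
    rfl
  -- assembling
  refine ⟨zb, R, hRn, ⟨?_, ?_, hExt, hRcard, ?_⟩, eb, ψb, ?_, ?_, ?_, ?_⟩
  · rw [← hzbval, Subgroup.orderOf_coe]
    exact orderOf_eq_prime (by rw [sq]; exact congrArg Subtype.val hww) hzne
  · -- generalised Fitting subgroup
    have hCo2 : Nat.card ↥Spor.Co2 = 42305421312000 := by
      rw [← Nat.card_congr co2Equiv.toEquiv, Leech.stabU_transitive_facts]
    have : IsSimpleGroup ↥Spor.Co2 := by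
      have := Leech.simple_stabU
      exact co2Equiv.symm.isSimpleGroup
    have hnab : ∀ N : Subgroup ↥Spor.Co2, N.Normal → Group.IsNilpotent N → N = ⊥ := by
      intro N hN hnil
      refine (IsSimpleGroup.eq_bot_or_eq_top_of_normal N hN).resolve_right fun h => ?_
      subst h
      have : Finite ↥Spor.Co2 := Nat.finite_of_card_ne_zero (by rw [hCo2]; norm_num)
      have : Group.IsNilpotent ↥Spor.Co2 := (Group.isNilpotent_congr Subgroup.topEquiv).1 hnil
      have hne : Subgroup.center ↥Spor.Co2 ≠ ⊥ := Group.IsNilpotent.center_ne_bot _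
      have hct : Subgroup.center ↥Spor.Co2 = ⊤ :=
        (IsSimpleGroup.eq_bot_or_eq_top_of_normal _ inferInstance).resolve_left hne
      have hcomm : ∀ a b : ↥Spor.Co2, a * b = b * a := fun a b =>
        Subgroup.mem_center_iff.1 (hct ▸ Subgroup.mem_top b) a
      let _ : CommGroup ↥Spor.Co2 := { mul_comm := hcomm }
      have hp := IsSimpleGroup.prime_card (α := ↥Spor.Co2)
      rw [hCo2] at hp
      norm_num at hp
    have hFle : fittingSubgroup Cb ≤ R := by
      rw [← hΘker, ← Subgroup.map_eq_bot_iff]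
      have hsn : ((fittingSubgroup Cb).map Θ).Normal :=
        (inferInstance : (fittingSubgroup Cb).Normal).map Θ hΘsurj
      refine hnab _ hsn ?_
      exact Group.nilpotent_of_surjective (Θ.subgroupMap (fittingSubgroup Cb))
        (MonoidHom.subgroupMap_surjective Θ _)
    have hFge : R ≤ fittingSubgroup Cb := Core.le_fittingSubgroup hR2.isNilpotent
    have hF : fittingSubgroup Cb = R := le_antisymm hFle hFge
    have hlayer : layer Cb = ⊥ := by
      rw [Layer.layer_eq_bot_iff_centralizer_fitting, hF]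
      have hsn : ((Subgroup.centralizer (R : Set Cb)).map Θ).Normal :=
        (inferInstance : (Subgroup.centralizer (R : Set Cb)).Normal).map Θ hΘsurj
      rcases IsSimpleGroup.eq_bot_or_eq_top_of_normal _ hsn with h | h
      · exact ((Subgroup.map_eq_bot_iff _).1 h).trans hΘker.le
      · exfalso
        have hmem : (⟨(signB : Equiv.Perm leechLattice), (signB : ↥Co0).2, signB_leechU⟩ : ↥Spor.Co2) ∈
            (Subgroup.centralizer (R : Set Cb)).map Θ := h ▸ Subgroup.mem_top _
        obtain ⟨y, hy, hye⟩ := hmem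
        obtain ⟨c, rfl⟩ := hμsurj y
        rw [hΘ, hκ] at hye
        change proj e c = rho signB at hye
        obtain ⟨q, hq⟩ := QuotientGroup.mk_surjective (ψ vecA)
        have hqA : q ∈ A := (hperp hq.symm).2 vec_facts.2.2.1
        obtain ⟨hq', hconj⟩ := hlift_conj c q hqA
        rw [← Subgroup.mem_centralizer_iff.1 hy _ (lift q hqA).2, mul_inv_cancel_right] at hconj
        have hc := d.hψ.2.2.2 _ signB hye.symm vecA q hq.symm
        rw [signB_vecA, d.hψ.1] at hc
        set q' : Q := ⟨(c : Subgroup.centralizer ({z} : Set G)) * q *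
          (c : Subgroup.centralizer ({z} : Set G))⁻¹, (inferInstance : Q.Normal).conj_mem _ q.2 _⟩ with hq'def
        have hk : μ (⟨(q : Subgroup.centralizer ({z} : Set G)), (hmemA q).2 hqA⟩⁻¹ *
            ⟨(q' : Subgroup.centralizer ({z} : Set G)), (hmemA q').2 hq'⟩) = 1 := by
          rw [map_mul, map_inv]
          exact inv_mul_eq_one.2 hconj.symm
        have hE : ψ vecE = QuotientGroup.mk (q⁻¹ * q') := by
          rw [QuotientGroup.mk_mul, QuotientGroup.mk_inv, ← hc, ← hq, inv_mul_cancel_left]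
          exact (psi_congr d).2 (cls_neg vecE).symm
        obtain ⟨hne1, hne2⟩ := cls_vecE_ne
        rcases hμker hk with h1 | h1
        · rw [show q⁻¹ * q' = 1 from Subtype.ext (Subtype.ext h1), QuotientGroup.mk_one,
            ← psi_zero d] at hE
          exact hne2 ((psi_congr d).1 hE)
        · rw [show q⁻¹ * q' = t from Subtype.ext (Subtype.ext h1), ← hu] at hE
          exact hne1 ((psi_congr d).1 hE)
    rw [generalizedFittingSubgroup, hlayer, bot_sup_eq, hF]
  · -- not weakly closed
    obtain ⟨g, r, r', hr, hne, ⟨y, hy⟩, hrr⟩ := exists_typ32_meet d hex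
    have hr'32 : Typ ψ 32 r' := by
      have hr2 : r ^ 2 = 1 := by
        obtain ⟨v, hv, hvr⟩ := hr
        exact (sq_iff d hvr).2 (by rw [show sqNorm (v : GolayPt → ℤ) = 32 from hv]; decide)
      have h2 : r' ^ 2 = 1 := by
        refine Subtype.ext (Subtype.ext ?_)
        show ((r' : Subgroup.centralizer ({z} : Set G)) : G) ^ 2 = 1
        have h := congrArg (fun a : Q => ((a : Subgroup.centralizer ({z} : Set G)) : G)) hr2
        simp only [SubgroupClass.coe_pow, Subgroup.coe_one, ← hrr, conj_pow] at h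
        exact conj_eq_one_iff.1 h
      have hrc := not_isConj_typ32 d hr
      rcases inv_cases d h2 with h | h | h
      · exfalso
        rcases center_of_coe d h with h' | h'
        · rw [h', mul_one, mul_inv_cancel] at hrr
          exact typ_notMem_center d (Or.inl rfl) hr
            ((show r = 1 from Subtype.ext (Subtype.ext hrr.symm)) ▸ Subgroup.one_mem _)
        · rw [h'] at hrr
          exact hrc (isConj_iff.2 ⟨g, hrr⟩)
      · exact h
      · exact absurd ((isConj_iff.2 ⟨g, hrr⟩ : IsConj ((r' : Subgroup.centralizer ({z} : Set G)) : G) _))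
          fun hcj => hrc (((typ64_iff d hex r').2 h).1.trans hcj)
    obtain ⟨k, hk⟩ := typ_trans d (Or.inl rfl) hr ht32
    obtain ⟨h, hh⟩ := typ_trans d (Or.inl rfl) ht32 hr'32
    have hk' : (k : G) * ((r : Subgroup.centralizer ({z} : Set G)) : G) * (k : G)⁻¹ = τ :=
      congrArg Subtype.val hk
    have hh' : (h : G) * τ * (h : G)⁻¹ = ((r' : Subgroup.centralizer ({z} : Set G)) : G) :=
      congrArg Subtype.val hh
    set w : G := (k : G) * g * (h : G) with hw
    have hwτ : w ∈ C1 := by
      refine Subgroup.mem_centralizer_singleton_iff.2 ?_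
      rw [← mul_inv_eq_iff_eq_mul]
      calc w * τ * w⁻¹ = (k : G) * (g * ((h : G) * τ * (h : G)⁻¹) * g⁻¹) * (k : G)⁻¹ := by
            rw [hw]; group
        _ = τ := by rw [hh', hrr, hk']
    set s : Q := ⟨k * y * k⁻¹, (inferInstance : Q.Normal).conj_mem _ y.2 k⟩ with hs
    have hws : w * z * w⁻¹ = ((s : Subgroup.centralizer ({z} : Set G)) : G) := by
      have hhz : (h : G) * z * (h : G)⁻¹ = z := by
        rw [mul_inv_eq_iff_eq_mul]; exact Subgroup.mem_centralizer_singleton_iff.1 h.2
      calc w * z * w⁻¹ = (k : G) * (g * ((h : G) * z * (h : G)⁻¹) * g⁻¹) * (k : G)⁻¹ := by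
            rw [hw]; group
        _ = _ := by rw [hhz, ← hy]; rfl
    have hsCC : (s : Subgroup.centralizer ({z} : Set G)) ∈ CC := by
      refine Subgroup.mem_centralizer_singleton_iff.2 (Subtype.ext ?_)
      show ((s : Subgroup.centralizer ({z} : Set G)) : G) * τ = τ * _
      rw [← hws]
      have := (hzτ.map (MulAut.conj w).toMonoidHom).eq
      have hwc : w * τ * w⁻¹ = τ := by
        rw [mul_inv_eq_iff_eq_mul]; exact Subgroup.mem_centralizer_singleton_iff.1 hwτ
      simp only [MulEquiv.coe_toMonoidHom, MulAut.conj_apply, hwc] at this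
      exact this
    set W : C1 ⧸ N := QuotientGroup.mk ⟨w, hwτ⟩ with hW
    have hval : W * zb * W⁻¹ = ((μ ⟨s, hsCC⟩ : Cb) : C1 ⧸ N) := by
      rw [hW, hzb, ← QuotientGroup.mk_inv, ← QuotientGroup.mk_mul, ← QuotientGroup.mk_mul]
      exact congrArg QuotientGroup.mk (Subtype.ext hws)
    have hmemCb : W * zb * W⁻¹ ∈ Cb := hval ▸ (μ ⟨s, hsCC⟩).2
    refine ⟨W, ⟨hmemCb, ⟨s, hsCC⟩, s.2, Subtype.ext hval.symm⟩, fun heq => ?_⟩
    rw [hval] at heq
    have h1 : μ (ζ'⁻¹ * ⟨s, hsCC⟩) = 1 := by
      rw [map_mul, map_inv, inv_mul_eq_one]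
      exact (Subtype.ext (heq.trans hzbval.symm)).symm
    rcases hμker h1 with h2 | h2
    · have hsz : ((s : Subgroup.centralizer ({z} : Set G)) : G) = z := (inv_mul_eq_one.1 h2).symm
      apply hne
      have hy' : ((y : Subgroup.centralizer ({z} : Set G)) : G) = z := by
        have hkz : Commute (k : G) z := Subgroup.mem_centralizer_singleton_iff.1 k.2
        have e1 : (k : G) * ((y : Subgroup.centralizer ({z} : Set G)) : G) * (k : G)⁻¹ = z := hsz
        rw [mul_inv_eq_iff_eq_mul, ← hkz.eq] at e1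
        exact mul_left_cancel e1
      rw [← hy, hy']
    · apply not_isConj_typ32 d htζ
      have : (((t * ζ : Q) : Subgroup.centralizer ({z} : Set G)) : G) = τ * z := rfl
      rw [this]
      refine isConj_iff.2 ⟨w, ?_⟩
      rw [hws, ← hzτ.eq]
      exact inv_mul_eq_iff_eq_mul.1 h2
  · intro x y
    have hq : pick x * pick y ∈ A := A.mul_mem (hpickA x) (hpickA y)
    rw [hspec (x + y) _ hq (by
      rw [QuotientGroup.mk_mul, ← hpick, ← hpick, ← d.hψ.1]
      rfl)]
    show QuotientGroup.mk _ = QuotientGroup.mk _ * QuotientGroup.mk _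
    rw [← QuotientGroup.mk_mul]
    congr 1
  · intro r
    obtain ⟨r, rfl⟩ := QuotientGroup.mk_surjective r
    obtain ⟨x, q, hq, hxq, rfl⟩ := hsurjR r
    exact ⟨x, hspec x q hq hxq⟩
  · intro x
    show (QuotientGroup.mk (lift (pick x) (hpickA x)) : R ⧸ Subgroup.center R) = 1 ↔ _
    rw [QuotientGroup.eq_one_iff]
    have hu_iff : ∀ v : leechLattice, ψ v = ψ Spor.leechU ↔ ∃ w, v = Spor.leechU + (w + w) := fun v => by
      rw [psi_congr d, Leech.cls_eq_iff]
    constructor
    · intro hc
      have hμ : ∀ (a : CC), μ a = 1 → ∀ (haq : (a : Subgroup.centralizer ({z} : Set G)) ∈ Q),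
          (QuotientGroup.mk (⟨_, haq⟩ : Q) : Q ⧸ Subgroup.center Q) = 1 ∨
          (QuotientGroup.mk (⟨_, haq⟩ : Q) : Q ⧸ Subgroup.center Q) = QuotientGroup.mk t := by
        intro a ha haq
        rcases hμker ha with h | h
        · left; rw [show (⟨_, haq⟩ : Q) = 1 from Subtype.ext (Subtype.ext h)]; rfl
        · right; rw [show (⟨_, haq⟩ : Q) = t from Subtype.ext (Subtype.ext h)]
      set a : CC := ⟨(pick x : Subgroup.centralizer ({z} : Set G)), (hmemA _).2 (hpickA x)⟩ with ha
      have hor : ψ (x : leechLattice) = 1 ∨ ψ (x : leechLattice) = QuotientGroup.mk t := by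
        rcases hcenR _ hc with h | h
        · rcases hμ a (congrArg Subtype.val h) (pick x).2 with h' | h'
          · exact Or.inl ((hpick x).trans h')
          · exact Or.inr ((hpick x).trans h')
        · have h1 : μ (ζ'⁻¹ * a) = 1 := by
            rw [map_mul, map_inv, inv_mul_eq_one]
            exact (congrArg Subtype.val h).symm
          have hm : ((ζ'⁻¹ * a : CC) : Subgroup.centralizer ({z} : Set G)) ∈ Q :=
            (ζ⁻¹ * pick x).2
          have hsplit : (QuotientGroup.mk (⟨_, hm⟩ : Q) : Q ⧸ Subgroup.center Q) = ψ (x : leechLattice) := by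
            rw [show (⟨_, hm⟩ : Q) = ζ⁻¹ * pick x from rfl, QuotientGroup.mk_mul,
              (QuotientGroup.eq_one_iff ζ⁻¹).2 (Subgroup.inv_mem _ hζc), one_mul, ← hpick]
          rw [← hsplit]
          exact hμ _ h1 hm
      rcases hor with h | h
      · exact Or.inl ((d.hψ.2.2.1 _).1 h)
      · exact Or.inr ((hu_iff _).1 (h.trans hu.symm))
    · intro hx
      have : ψ (x : leechLattice) = 1 ∨ ψ (x : leechLattice) = QuotientGroup.mk t := by
        rcases hx with hx | hx
        · exact Or.inl ((d.hψ.2.2.1 _).2 hx)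
        · exact Or.inr (((hu_iff _).2 hx).trans hu)
      rcases this with h | h
      · have h1 := hspec x 1 A.one_mem (h.trans (QuotientGroup.mk_one _).symm)
        have : lift 1 A.one_mem = (1 : R) := Subtype.ext (map_one μ)
        rw [this, QuotientGroup.mk_one] at h1
        exact (QuotientGroup.eq_one_iff _).1 h1
      · have htA : t ∈ A := Subgroup.mem_centralizer_singleton_iff.2 rfl
        have h1 := hspec x t htA h
        have : lift t htA = (1 : R) := Subtype.ext hμt
        rw [this, QuotientGroup.mk_one] at h1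
        exact (QuotientGroup.eq_one_iff _).1 h1
  · intro h g hg x y hxy rb hrb
    obtain ⟨c, rfl⟩ := hμsurj h
    rw [heb, hΘ, hκ] at hg
    have hc := d.hψ.2.2.2 (c : Subgroup.centralizer ({z} : Set G)) (co2Equiv.symm g : ↥Co0) hg.symm
      (x : leechLattice) (pick x) (hpick x)
    have hxy' : (co2Equiv.symm g : ↥Co0) • (x : leechLattice) = (y : leechLattice) := hxy
    rw [hxy'] at hc
    obtain ⟨hq', hconj⟩ := hlift_conj c (pick x) (hpickA x)
    rw [hspec y _ hq' hc]
    have hrel : (lift (pick x) (hpickA x))⁻¹ * rb ∈ Subgroup.center R := QuotientGroup.eq.1 hrb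
    refine QuotientGroup.eq.2 ?_
    rcases hcenR _ hrel with h1 | h1
    · have : rb = lift (pick x) (hpickA x) := (inv_mul_eq_one.1 h1).symm
      subst this
      convert Subgroup.one_mem (Subgroup.center R) using 1
      refine Subtype.ext ?_
      simp only [Subgroup.coe_mul, Subgroup.coe_inv, hconj, Subgroup.coe_one]
      group
    · have : rb = lift (pick x) (hpickA x) * wR := by rw [← h1, mul_inv_cancel_left]
      subst this
      convert hwc using 1
      refine Subtype.ext ?_
      simp only [Subgroup.coe_mul, Subgroup.coe_inv, hconj]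
      show (μ c * _ * (μ c)⁻¹)⁻¹ * (μ c * (_ * zbC) * (μ c)⁻¹) = zbC
      have hcz : μ c * zbC = zbC * μ c := Subtype.ext (Subgroup.mem_centralizer_singleton_iff.1 (μ c).2)
      calc _ = μ c * zbC * (μ c)⁻¹ := by group
        _ = zbC := by rw [hcz, mul_inv_cancel_right]

end Cfsg.Agent.MonsterType
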